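import Groth.Agent.Krr.H458.SecPt
import Groth.Agent.Sga5.ProjHyper
import Groth.Agent.Ega3A.PChart
import Groth.Agent.Fga.HilbClosed

/-!
# Base change of the points `pt R i` of `P^1_R`

* `pt_pmap`, `isPullback_pt`: `pt B i` is the base change of `pt A i`.
-/

set_option autoImplicit false

universe u

open CategoryTheory CategoryTheory.Limits AlgebraicGeometry MvPolynomial

namespace Groth.Agent.Krr.H458.SecBC

open Groth.Agent.Sga5.ProjChart Groth.Agent.Sga5.ProjSmooth Groth.Agent.CohqB.P1Charts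
open Groth.Agent.CohqB.ProjBC Groth.Agent.Sga5.ProjHyper
open Groth.Agent.Krr.H458.SecPt

theorem chartC_eq_mk (n : ℕ) (R : Type u) [CommRing R] (i : Fin (n + 1)) (r : R) :
    chartC n R i r = HomogeneousLocalization.Away.mk _ (Sga5.ProjChart.X_mem n R i) 0 (C r)
      (by simp) := by
  apply HomogeneousLocalization.val_injective
  rw [val_chartC, HomogeneousLocalization.Away.val_mk, ← Localization.mk_one_eq_algebraMap]
  congr 1

variable {A B : Type u} [CommRing A] [CommRing B] (φ : A →+* B) (i : Fin 2)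

theorem gmap_X : gmap φ 1 (X i : MvPolynomial (Fin 2) A) = X i := by simp

theorem ψ_comp :
    (ψ B i).comp (awayMapTo (gmap φ 1) (gmap_X φ i)) = φ.comp (ψ A i) := by
  have key : ((ψ B i).comp (awayMapTo (gmap φ 1) (gmap_X φ i))).comp (ofPoly 1 A i) =
      (φ.comp (ψ A i)).comp (ofPoly 1 A i) := by
    apply MvPolynomial.ringHom_ext
    · intro a
      have h1 : ofPoly 1 A i (C a) = chartC 1 A i a := by simp [ofPoly]
      rw [RingHom.comp_apply, RingHom.comp_apply, RingHom.comp_apply, RingHom.comp_apply, h1]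
      have h2 : awayMapTo (gmap φ 1) (gmap_X φ i) (chartC 1 A i a) = chartC 1 B i (φ a) := by
        rw [chartC_eq_mk, chartC_eq_mk,
          awayMapTo_mk (gmap φ 1) (gmap_X φ i) (Sga5.ProjChart.X_mem 1 A i)
            (Sga5.ProjChart.X_mem 1 B i)]
        congr 1
        simp
      have h3 : ∀ (R : Type u) [CommRing R] (r : R), ψ R i (chartC 1 R i r) = r := by
        intro R _ r
        have h4 : chartC 1 R i r = chartEquiv 1 R i (C r) := (chartEquiv_C 1 R i r).symm
        rw [h4]
        change constantCoeff ((chartEquiv 1 R i).symm (chartEquiv 1 R i (C r))) = r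
        rw [RingEquiv.symm_apply_apply, constantCoeff_C]
      rw [h2, h3, h3]
    · intro k
      obtain rfl : k = 0 := Subsingleton.elim _ _
      have h1 : ∀ (R : Type u) [CommRing R], ofPoly 1 R i (X 0) = coord 1 R i (i.succAbove 0) := by
        intro R _; simp [ofPoly]
      have h0 : i ≠ i.succAbove 0 := (Fin.succAbove_ne i 0).symm
      rw [RingHom.comp_apply, RingHom.comp_apply, RingHom.comp_apply, RingHom.comp_apply, h1]
      have h2 : awayMapTo (gmap φ 1) (gmap_X φ i) (coord 1 A i (i.succAbove 0)) =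
          coord 1 B i (i.succAbove 0) := by
        rw [coord, coord, awayMapTo_mk (gmap φ 1) (gmap_X φ i) (Sga5.ProjChart.X_mem 1 A i)
            (Sga5.ProjChart.X_mem 1 B i)]
        congr 1
        simp
      have h3 : ψ B i (coord 1 B i (i.succAbove 0)) = 0 := ψ_frac B h0
      have h4 : ψ A i (coord 1 A i (i.succAbove 0)) = 0 := ψ_frac A h0
      rw [h2, h3, h4, map_zero]
  refine RingHom.ext fun z => ?_
  obtain ⟨p, rfl⟩ := ofPoly_surjective 1 A i z
  exact congr($key p)

@[reassoc]
theorem pt_pmap : pt B i ≫ pmap φ 1 = Spec.map (CommRingCat.ofHom φ) ≫ pt A i := by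
  rw [pt_eq, pt_eq, Category.assoc]
  have h := awayι_comp_map' (gmap φ 1) (irrelevant_le φ 1) Nat.one_pos
    (Sga5.ProjChart.X_mem 1 A i) (gmap_X φ i) (Sga5.ProjChart.X_mem 1 B i)
  have h' : cι B i ≫ pmap φ 1 =
      Spec.map (CommRingCat.ofHom (awayMapTo (gmap φ 1) (gmap_X φ i))) ≫ cι A i := h
  rw [h', ← Category.assoc, ← Category.assoc, ← Spec.map_comp, ← Spec.map_comp,
    ← CommRingCat.ofHom_comp, ← CommRingCat.ofHom_comp, ψ_comp]

theorem isPullback_pt : IsPullback (Spec.map (CommRingCat.ofHom φ)) (pt B i) (pt A i) (pmap φ 1) := by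
  have h1 : IsPullback (pmap φ 1) (CohB1.ProjSpace.toSpec 1 B) (CohB1.ProjSpace.toSpec 1 A)
    (Spec.map (CommRingCat.ofHom φ)) := isPullback_pmap φ 1
  have h2 : IsPullback (Spec.map (CommRingCat.ofHom φ)) (pt B i ≫ CohB1.ProjSpace.toSpec 1 B)
      (pt A i ≫ CohB1.ProjSpace.toSpec 1 A) (Spec.map (CommRingCat.ofHom φ)) := by
    rw [pt_toSpec, pt_toSpec]
    exact IsPullback.of_vert_isIso ⟨by simp⟩
  exact IsPullback.of_bot h2 (pt_pmap φ i).symm h1

theorem comap_ker_pt : (pt A i).ker.comap (pmap φ 1) = (pt B i).ker :=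
  (Fga.HilbClosed.ker_of_isPullback (isPullback_pt φ i)).symm

end Groth.Agent.Krr.H458.SecBC
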