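import Groth.Agent.Krr.H458.SecPt
import Groth.Agent.Picfga.LineHom

/-!
# The ideal modules of the points `[1 : 0]` and `[0 : 1]` of `P^1_R` are isomorphic
-/

set_option autoImplicit false

universe u

open CategoryTheory CategoryTheory.Limits AlgebraicGeometry MvPolynomial

namespace Groth.Agent.Krr.H458.SecIso

open Groth.Agent.CohqB.P1Charts Groth.Agent.Krr.H458.SecPt
open Groth.Agent.Dix.IdealModCartier Groth.Agent.Divis.EffCartier Groth.Agent.Fdesc.LocGen
open Groth.Agent.Picfga.LineHom

variable (R : Type u) [CommRing R]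

theorem exists_val {i : Fin 2} {k : Fin 2} (a : Γ(CohB1.ProjSpace 1 R, D 1 R k))
    (ha : GenOn (pt R i).ker a) : ∃ s : Γ(ClSub.idealMod (pt R i).ker, D 1 R k), val _ s = a :=
  exists_val_eq (pt R i).ker (DA R k) (by
    have := (ha (DA R k) le_rfl).2
    rw [ores_refl] at this
    rw [this]; exact Ideal.mem_span_singleton_self _)

theorem nonempty_iso :
    Nonempty (ClSub.idealMod (pt R 0).ker ≅ ClSub.idealMod (pt R 1).ker) := by
  have h01 : (0 : Fin 2) ≠ 1 := by decide
  obtain ⟨e0, he0⟩ := exists_val R (i := 0) (k := 0) _ (genOn_self R h01)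
  obtain ⟨e1, he1⟩ := exists_val R (i := 0) (k := 1) _ (genOn_other R h01)
  obtain ⟨n0, hn0⟩ := exists_val R (i := 1) (k := 0) _ (genOn_other R h01.symm)
  obtain ⟨n1, hn1⟩ := exists_val R (i := 1) (k := 1) _ (genOn_self R h01.symm)
  have ge0 : IsGen e0 := isGen_of_genOn (he0.symm ▸ genOn_self R h01)
  have ge1 : IsGen e1 := isGen_of_genOn (he1.symm ▸ genOn_other R h01)
  have gn0 : IsGen n0 := isGen_of_genOn (hn0.symm ▸ genOn_other R h01.symm)
  have gn1 : IsGen n1 := isGen_of_genOn (hn1.symm ▸ genOn_self R h01.symm)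
  let U : Fin 2 → (CohB1.ProjSpace 1 R).Opens := fun k => D 1 R k
  let e : ∀ k, Γ(ClSub.idealMod (pt R 0).ker, U k) := fun k => match k with
    | 0 => e0
    | 1 => e1
  let n : ∀ k, Γ(ClSub.idealMod (pt R 1).ker, U k) := fun k => match k with
    | 0 => n0
    | 1 => n1
  have ge : ∀ k, IsGen (e k) := fun k => match k with
    | 0 => ge0
    | 1 => ge1
  have gn : ∀ k, IsGen (n k) := fun k => match k with
    | 0 => gn0
    | 1 => gn1
  have hU : (⨆ k, U k) = ⊤ := iSup_D 1 R
  have hr := ratio_mul_ratio 1 R 0 1
  have hr' := ratio_mul_ratio 1 R 1 0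
  obtain ⟨φ, -⟩ := exists_iso (L := ClSub.idealMod (pt R 0).ker) (N := ClSub.idealMod (pt R 1).ker)
    hU (e := e) ge (n := n) (trans_of_inf ge (by
      intro k l
      fin_cases k <;> fin_cases l
      · exact ⟨1, by rw [one_smul], by rw [one_smul]⟩
      · refine ⟨ores inf_le_left (ratio 1 R 0 1), ?_, ?_⟩
        · apply val_injective
          rw [val_smul, val_res, val_res]
          change ores _ (val _ e0) = _ * ores _ (val _ e1)
          rw [he0, he1, map_one, mul_one]
        · apply val_injective
          rw [val_smul, val_res, val_res]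
          change ores _ (val _ n0) = _ * ores _ (val _ n1)
          rw [hn0, hn1, map_one]
          exact hr.symm
      · refine ⟨ores inf_le_left (ratio 1 R 1 0), ?_, ?_⟩
        · apply val_injective
          rw [val_smul, val_res, val_res]
          change ores _ (val _ e1) = _ * ores _ (val _ e0)
          rw [he0, he1, map_one]
          exact hr'.symm
        · apply val_injective
          rw [val_smul, val_res, val_res]
          change ores _ (val _ n1) = _ * ores _ (val _ n0)
          rw [hn0, hn1, map_one, mul_one]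
      · exact ⟨1, by rw [one_smul], by rw [one_smul]⟩)) gn
  exact ⟨φ⟩

end Groth.Agent.Krr.H458.SecIso
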