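import Groth.Prelude.Def_KRR
import Groth.Agent.Krr.H458.SecBC
import Groth.Agent.Krr.H458.SecIso

/-!
# The sections `0` and `∞` of `P^1_Y` and their ideals

* `sec i Y : Y ⟶ P^1_Y`, `sec0 = sec 0`, `secInf = sec 1`.
-/

set_option autoImplicit false

universe u

open CategoryTheory CategoryTheory.Limits AlgebraicGeometry MvPolynomial

namespace Groth.Agent.Krr.H458.SecP1

open Groth.Agent.Sga5.ProjChart Groth.Agent.Sga5.ProjSmooth Groth.Agent.CohqB.P1Charts
open Groth.Agent.CohqB.ProjBC Groth.Agent.Krr.H458.SecPt Groth.Agent.Krr.H458.SecBC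
open Groth.Agent.Dix.IdealModCartier Groth.Agent.Divis.EffCartier Groth.Agent.Fdesc.LocGen
open Groth.Agent.Ega3A.PChart

/-- The coefficient ring. -/
abbrev Z0 : Type u := ULift.{u} ℤ

variable (i : Fin 2) (Y : Scheme.{u})

/-- The projection to `P^1` over the integers. -/
noncomputable abbrev prZ : KRR.PY 1 Y ⟶ CohB1.ProjSpace 1 Z0.{u} :=
  pullback.fst (CohB1.ProjSpace.toSpec 1 Z0.{u}) (specULiftZIsTerminal.from Y)

theorem isPullback_prZ : IsPullback (prZ Y) (KRR.pr 1 Y) (CohB1.ProjSpace.toSpec 1 Z0.{u})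
    (specULiftZIsTerminal.from Y) :=
  IsPullback.of_hasPullback _ _

/-- The section of `P^1_Y` with values in the point `pt i`. -/
noncomputable def sec : Y ⟶ KRR.PY 1 Y :=
  pullback.lift (specULiftZIsTerminal.from Y ≫ pt Z0.{u} i) (𝟙 Y) (specULiftZIsTerminal.hom_ext _ _)

@[reassoc (attr := simp)]
theorem sec_pr : sec i Y ≫ KRR.pr 1 Y = 𝟙 Y := pullback.lift_snd _ _ _

@[reassoc]
theorem sec_prZ : sec i Y ≫ prZ Y = specULiftZIsTerminal.from Y ≫ pt Z0.{u} i :=
  pullback.lift_fst _ _ _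

theorem isPullback_sec_prZ : IsPullback (specULiftZIsTerminal.from Y) (sec i Y) (pt Z0.{u} i) (prZ Y) := by
  have h2 : IsPullback (specULiftZIsTerminal.from Y) (sec i Y ≫ KRR.pr 1 Y)
      (pt Z0.{u} i ≫ CohB1.ProjSpace.toSpec 1 Z0.{u}) (specULiftZIsTerminal.from Y) := by
    rw [pt_toSpec, sec_pr]
    exact IsPullback.of_vert_isIso ⟨by simp⟩
  exact IsPullback.of_bot h2 (sec_prZ i Y).symm (isPullback_prZ Y)

instance isSeparated_pr (n : ℕ) : IsSeparated (KRR.pr n Y) :=
  CycB.P1Sep.isSeparated_toBase n Y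

instance isClosedImmersion_sec : IsClosedImmersion (sec i Y) :=
  MorphismProperty.of_isPullback (P := @IsClosedImmersion) (isPullback_sec_prZ i Y) inferInstance

/-- The ideal of the section `sec i`. -/
noncomputable def idl : (KRR.PY 1 Y).IdealSheafData := (sec i Y).ker

theorem idl_eq_comap : idl i Y = (pt Z0.{u} i).ker.comap (prZ Y) :=
  Fga.HilbClosed.ker_of_isPullback (isPullback_sec_prZ i Y)

/-- On the chart of an affine open of `Y`, the ideal of the section is the ideal of the point. -/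
theorem idl_comap_chart {A : Type u} [CommRing A] (h : Spec (CommRingCat.of A) ⟶ Y) :
    (idl i Y).comap (Ega3A.PChart.chart 1 h) = (pt A i).ker := by
  rw [idl_eq_comap, ← Scheme.IdealSheafData.comap_comp]
  have h1 : Ega3A.PChart.chart 1 h ≫ prZ Y = pmap (zmap A) 1 := chart_fstZ 1 h
  rw [h1, comap_ker_pt]

theorem exists_chart (x : KRR.PY 1 Y) : ∃ (A : Type u) (_ : CommRing A)
    (h : Spec (CommRingCat.of A) ⟶ Y) (_ : IsOpenImmersion h),
      x ∈ Set.range (Ega3A.PChart.chart 1 h) := by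
  obtain ⟨V, hV, hx, -⟩ := exists_isAffineOpen_mem_and_subset (U := (⊤ : Y.Opens))
    (x := KRR.pr 1 Y x) trivial
  refine ⟨Γ(Y, V), inferInstance, hV.fromSpec, inferInstance, ?_⟩
  have h1 := isPullback_chart 1 hV.fromSpec
  have hx' : KRR.pr 1 Y x ∈ Set.range hV.fromSpec := by
    rw [hV.range_fromSpec]; exact hx
  obtain ⟨y, hy⟩ := hx'
  obtain ⟨z, hz, -⟩ := Scheme.Pullback.exists_preimage_pullback x y hy.symm
  refine ⟨h1.isoPullback.inv z, ?_⟩
  rw [← hz, ← Scheme.Hom.comp_apply, h1.isoPullback_inv_fst]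

/-- The ideal of the section is effective Cartier. -/
theorem isEff_idl : BlowUp.IsEffCartierIdeal (idl i Y) := by
  refine isEff_of_forall_comap fun x => ?_
  obtain ⟨A, _, h, hh, hx⟩ := exists_chart Y x
  refine ⟨_, Ega3A.PChart.chart 1 h, inferInstance, hx, ?_⟩
  rw [idl_comap_chart]
  exact SecPt.isEff A i

/-- The zero section of `P^1_Y`. -/
noncomputable abbrev sec0 : Y ⟶ KRR.PY 1 Y := sec 0 Y

/-- The infinity section of `P^1_Y`. -/
noncomputable abbrev secInf : Y ⟶ KRR.PY 1 Y := sec 1 Y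

section Disjoint

variable {i} {j : Fin 2}

theorem sup_ker_pt (R : Type u) [CommRing R] (hij : i ≠ j) :
    (pt R i).ker ⊔ (pt R j).ker = ⊤ := by
  refine Scheme.IdealSheafData.ext_of_iSup_eq_top (DA R) (iSup_D 1 R) fun k => ?_
  rw [Scheme.IdealSheafData.ideal_sup, Scheme.IdealSheafData.ideal_top]
  have hk : i ≠ k ∨ j ≠ k := by
    by_contra hcon
    push Not at hcon
    exact hij (hcon.1.trans hcon.2.symm)
  rcases hk with hk | hk
  · have h1 := ideal_other R hk
    simp only [Pi.sup_apply, Pi.top_apply]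
    rw [h1]; exact top_sup_eq _
  · have h1 := ideal_other R hk
    simp only [Pi.sup_apply, Pi.top_apply]
    rw [h1]; exact sup_top_eq _

theorem sup_idl (hij : i ≠ j) : idl i Y ⊔ idl j Y = ⊤ := by
  rw [idl_eq_comap, idl_eq_comap, ← Scheme.IdealSheafData.comap_sup, sup_ker_pt _ hij,
    Scheme.IdealSheafData.comap_top]

theorem comap_ker_self {X' Y' : Scheme.{u}} (g : X' ⟶ Y') : g.ker.comap g = ⊥ := by
  rw [eq_bot_iff, ← Scheme.IdealSheafData.le_map_iff_comap_le, Scheme.IdealSheafData.map_bot]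

theorem idl_comap_sec (hij : i ≠ j) : (idl i Y).comap (sec j Y) = ⊤ := by
  have h1 := congrArg (fun I => Scheme.IdealSheafData.comap I (sec j Y)) (sup_idl Y hij)
  simp only [Scheme.IdealSheafData.comap_sup, Scheme.IdealSheafData.comap_top] at h1
  rw [show (idl j Y).comap (sec j Y) = ⊥ from comap_ker_self _, sup_bot_eq] at h1
  exact h1

end Disjoint

section IsoIdeal

/-- The ideal modules of the sections `0` and `∞` are isomorphic. -/
theorem nonempty_idealMod_iso :
    Nonempty (ClSub.idealMod (idl 0 Y) ≅ ClSub.idealMod (idl 1 Y)) := by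
  obtain ⟨e⟩ := SecIso.nonempty_iso Z0.{u}
  have h0 : BlowUp.IsEffCartierIdeal ((pt Z0.{u} 0).ker.comap (prZ Y)) := by
    rw [← idl_eq_comap]; exact isEff_idl 0 Y
  have h1 : BlowUp.IsEffCartierIdeal ((pt Z0.{u} 1).ker.comap (prZ Y)) := by
    rw [← idl_eq_comap]; exact isEff_idl 1 Y
  obtain ⟨e0⟩ := pullback_idealMod (prZ Y) (SecPt.isEff Z0.{u} 0) h0
  obtain ⟨e1⟩ := pullback_idealMod (prZ Y) (SecPt.isEff Z0.{u} 1) h1
  rw [idl_eq_comap, idl_eq_comap]
  exact ⟨e0.symm ≪≫ (Scheme.Modules.pullback (prZ Y)).mapIso e ≪≫ e1⟩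

variable {Y} in
/-- The ideal modules of the inverse images of the sections `0` and `∞` are isomorphic, when both are effective
Cartier. -/
theorem nonempty_idealMod_comap {M : Scheme.{u}} (ρ : M ⟶ KRR.PY 1 Y)
    (h0 : BlowUp.IsEffCartierIdeal ((idl 0 Y).comap ρ))
    (h1 : BlowUp.IsEffCartierIdeal ((idl 1 Y).comap ρ)) :
    Nonempty (ClSub.idealMod ((idl 0 Y).comap ρ) ≅ ClSub.idealMod ((idl 1 Y).comap ρ)) := by
  obtain ⟨e⟩ := nonempty_idealMod_iso Y
  obtain ⟨e0⟩ := pullback_idealMod ρ (isEff_idl 0 Y) h0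
  obtain ⟨e1⟩ := pullback_idealMod ρ (isEff_idl 1 Y) h1
  exact ⟨e0.symm ≪≫ (Scheme.Modules.pullback ρ).mapIso e ≪≫ e1⟩

end IsoIdeal

section BaseChange

variable {X Y : Scheme.{u}} (f : X ⟶ Y)

@[reassoc]
theorem projSpaceMap_prZ : KRR.projSpaceMap 1 f ≫ prZ Y = prZ X := by
  refine (pullback.lift_fst _ _ _).trans ?_
  exact Category.comp_id _

@[reassoc]
theorem projSpaceMap_pr (n : ℕ) : KRR.projSpaceMap n f ≫ KRR.pr n Y = KRR.pr n X ≫ f :=
  pullback.lift_snd _ _ _

theorem isPullback_projSpaceMap (n : ℕ) :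
    IsPullback (KRR.projSpaceMap n f) (KRR.pr n X) (KRR.pr n Y) f := by
  have h1 : IsPullback (pullback.fst (CohB1.ProjSpace.toSpec n Z0.{u}) (specULiftZIsTerminal.from Y))
      (KRR.pr n Y) (CohB1.ProjSpace.toSpec n Z0.{u}) (specULiftZIsTerminal.from Y) :=
    IsPullback.of_hasPullback _ _
  have h2 : IsPullback (pullback.fst (CohB1.ProjSpace.toSpec n Z0.{u}) (specULiftZIsTerminal.from X))
      (KRR.pr n X) (CohB1.ProjSpace.toSpec n Z0.{u}) (specULiftZIsTerminal.from X) :=
    IsPullback.of_hasPullback _ _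
  have e1 : KRR.projSpaceMap n f ≫ pullback.fst (CohB1.ProjSpace.toSpec n Z0.{u})
      (specULiftZIsTerminal.from Y) = pullback.fst (CohB1.ProjSpace.toSpec n Z0.{u})
      (specULiftZIsTerminal.from X) := by
    refine (pullback.lift_fst _ _ _).trans ?_
    exact Category.comp_id _
  have e2 : f ≫ specULiftZIsTerminal.from Y = specULiftZIsTerminal.from X :=
    specULiftZIsTerminal.hom_ext _ _
  have h3 : IsPullback (KRR.projSpaceMap n f ≫ pullback.fst (CohB1.ProjSpace.toSpec n Z0.{u})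
      (specULiftZIsTerminal.from Y)) (KRR.pr n X) (CohB1.ProjSpace.toSpec n Z0.{u})
      (f ≫ specULiftZIsTerminal.from Y) := by
    rw [e2, e1]; exact h2
  exact IsPullback.of_right h3 (projSpaceMap_pr f n) h1

@[reassoc]
theorem sec_projSpaceMap (i : Fin 2) : sec i X ≫ KRR.projSpaceMap 1 f = f ≫ sec i Y := by
  refine (isPullback_prZ Y).hom_ext ?_ ?_
  · rw [Category.assoc, projSpaceMap_prZ, sec_prZ, Category.assoc, sec_prZ, ← Category.assoc]
    congr 1
    exact specULiftZIsTerminal.hom_ext _ _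
  · rw [Category.assoc, projSpaceMap_pr, sec_pr_assoc, Category.assoc, sec_pr, Category.comp_id]

theorem isPullback_sec (i : Fin 2) :
    IsPullback f (sec i X) (sec i Y) (KRR.projSpaceMap 1 f) := by
  have h2 : IsPullback f (sec i X ≫ KRR.pr 1 X) (sec i Y ≫ KRR.pr 1 Y) f := by
    rw [sec_pr, sec_pr]
    exact IsPullback.of_vert_isIso ⟨by simp⟩
  exact IsPullback.of_bot h2 (sec_projSpaceMap f i).symm (isPullback_projSpaceMap f 1)

theorem idl_comap_projSpaceMap (i : Fin 2) :
    (idl i Y).comap (KRR.projSpaceMap 1 f) = idl i X :=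
  (Fga.HilbClosed.ker_of_isPullback (isPullback_sec f i)).symm

instance isClosedImmersion_projSpaceMap (n : ℕ) [IsClosedImmersion f] :
    IsClosedImmersion (KRR.projSpaceMap n f) :=
  MorphismProperty.of_isPullback (P := @IsClosedImmersion) (isPullback_projSpaceMap f n).flip
    inferInstance

end BaseChange

end Groth.Agent.Krr.H458.SecP1
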