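import Groth.Prelude.Def_KRR
import Groth.Agent.Krr.H458.SecP1
import Groth.Agent.Sga5.ProjConn
import Groth.Agent.Dix.ProjProper
import Groth.Agent.Krr.H452.PnConn
import Mathlib.AlgebraicGeometry.Noetherian

/-!
# Connectedness of `P^1_Y` minus the section at infinity; Noetherianity of `P^n_Y`

* `isPreirreducible_fibre`: the fibres of `P^n_Y ⟶ Y` are irreducible.
* `isPreconnected_of_section`: an open subset of the source containing a section, of a map with irreducible
  fibres, is connected if the base is.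
* `isPreconnected_compl_secInf`, `isNoetherian_PY`.
-/

set_option autoImplicit false

universe u

open CategoryTheory CategoryTheory.Limits AlgebraicGeometry MvPolynomial TopologicalSpace

namespace Groth.Agent.Krr.H458.ConnPn

open Groth.Agent.Sga5.ProjChart Groth.Agent.Sga5.ProjSmooth Groth.Agent.Sga5.ProjConn
open Groth.Agent.Krr.H458.SecP1

section Top

theorem isPreconnected_of_section {X Y : Type*} [TopologicalSpace X] [TopologicalSpace Y] (f : X → Y)
    (s : Y → X) (hs : Continuous s) (hfs : ∀ y, f (s y) = y)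
    (hf : ∀ y, IsPreirreducible (f ⁻¹' {y})) [PreconnectedSpace Y]
    (U : Set X) (hU : IsOpen U) (hsU : ∀ y, s y ∈ U) : IsPreconnected U := by
  refine isPreconnected_of_forall_pair fun x hx x' hx' => ?_
  have h1 : ∀ y, IsPreconnected (f ⁻¹' {y} ∩ U) := by
    intro y
    refine IsPreirreducible.isPreconnected ?_
    rintro V V' hV hV' ⟨a, ha, haV⟩ ⟨b, hb, hbV⟩
    obtain ⟨c, hc, hc1, hc2⟩ := hf y (U ∩ V) (U ∩ V') (hU.inter hV) (hU.inter hV') ⟨a, ha.1, ha.2, haV⟩
      ⟨b, hb.1, hb.2, hbV⟩
    exact ⟨c, ⟨hc, hc1.1⟩, hc1.2, hc2.2⟩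
  refine ⟨f ⁻¹' {f x} ∩ U ∪ (Set.range s ∪ f ⁻¹' {f x'} ∩ U), ?_, Or.inl ⟨rfl, hx⟩,
    Or.inr (Or.inr ⟨rfl, hx'⟩), ?_⟩
  · rintro z (hz | hz | hz)
    · exact hz.2
    · obtain ⟨y, rfl⟩ := hz; exact hsU y
    · exact hz.2
  · refine IsPreconnected.union (s (f x)) ⟨hfs _, hsU _⟩ (Or.inl ⟨_, rfl⟩) (h1 _) ?_
    exact IsPreconnected.union (s (f x')) ⟨_, rfl⟩ ⟨hfs _, hsU _⟩ (isPreconnected_range hs) (h1 _)

end Top

section Fibre

variable (n : ℕ)

theorem isPreirreducible_range_chart (R : Type u) [CommRing R] [IsDomain R] (i : Fin (n + 1)) :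
    IsPreirreducible (Set.range (chart n R i) : Set (CohB1.ProjSpace n R)) := by
  have : IrreducibleSpace (Spec (CommRingCat.of (MvPolynomial (Fin n) R))) :=
    inferInstanceAs (IrreducibleSpace (PrimeSpectrum (MvPolynomial (Fin n) R)))
  rw [← Set.image_univ]
  exact (PreirreducibleSpace.isPreirreducible_univ).image _ (chart n R i).continuous.continuousOn

/-- Projective space over a domain is irreducible. -/
theorem isPreirreducible_univ_projSpace (R : Type u) [CommRing R] [IsDomain R] :
    IsPreirreducible (Set.univ : Set (CohB1.ProjSpace n R)) := by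
  rintro U V hU hV ⟨x, -, hx⟩ ⟨y, -, hy⟩
  obtain ⟨i, hi⟩ := exists_mem_chart n R x
  obtain ⟨j, hj⟩ := exists_mem_chart n R y
  have hopen : ∀ i, IsOpen (Set.range (chart n R i) : Set (CohB1.ProjSpace n R)) :=
    fun i => (chart n R i).opensRange.isOpen
  obtain ⟨z, hz, hz1, hz2⟩ := isPreirreducible_range_chart n R i U _ hU (hopen j) ⟨x, hi, hx⟩
    ⟨genPt n R, genPt_mem n R i, genPt_mem n R j⟩
  obtain ⟨w, -, hw⟩ := isPreirreducible_range_chart n R j U V hU hV ⟨z, hz2, hz1⟩ ⟨y, hj, hy⟩
  exact ⟨w, trivial, hw⟩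

variable (Y : Scheme.{u})

theorem fibre_eq_range {K : Type u} [Field K] (s : Spec (CommRingCat.of K) ⟶ Y) (y : Y)
    (hs : Set.range s = {y}) :
    (KRR.pr n Y) ⁻¹' {y} = Set.range (Ega3A.PChart.chart n s) := by
  have h1 := Ega3A.PChart.isPullback_chart n s
  ext x
  constructor
  · intro hx
    have hx1 : (KRR.pr n Y) x = y := hx
    have hx' : KRR.pr n Y x ∈ Set.range s := by
      rw [hs, hx1]; rfl
    obtain ⟨y', hy⟩ := hx'
    obtain ⟨z, hz, -⟩ := Scheme.Pullback.exists_preimage_pullback x y' hy.symm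
    refine ⟨h1.isoPullback.inv z, ?_⟩
    rw [← hz, ← Scheme.Hom.comp_apply, h1.isoPullback_inv_fst]
  · rintro ⟨z, rfl⟩
    have h2 : KRR.pr n Y (Ega3A.PChart.chart n s z) = s (CohB1.ProjSpace.toSpec n K z) := by
      rw [← Scheme.Hom.comp_apply, ← Scheme.Hom.comp_apply]
      exact congr($(h1.w) z)
    have h3 : s (CohB1.ProjSpace.toSpec n K z) ∈ ({y} : Set Y) := by
      rw [← hs]; exact ⟨_, rfl⟩
    change KRR.pr n Y (Ega3A.PChart.chart n s z) ∈ ({y} : Set Y)
    rw [h2]; exact h3

/-- The fibres of `P^n_Y ⟶ Y` are irreducible. -/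
theorem isPreirreducible_fibre (y : Y) : IsPreirreducible ((KRR.pr n Y) ⁻¹' {y}) := by
  have h1 := fibre_eq_range n Y (K := Y.residueField y) (Y.fromSpecResidueField y) y
    (Scheme.range_fromSpecResidueField y)
  rw [h1, ← Set.image_univ]
  exact (isPreirreducible_univ_projSpace n (Y.residueField y)).image _
    (Ega3A.PChart.chart n (Y.fromSpecResidueField y)).continuous.continuousOn

end Fibre

section Conn

variable (n : ℕ) (Y : Scheme.{u})

instance isProper_pr : IsProper (KRR.pr n Y) :=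
  inferInstanceAs (IsProper (CohB1.ProjSpaceOver.toBase n Y))

/-- `P^n_Y` is Noetherian if `Y` is. -/
theorem isNoetherian_PY [IsNoetherian Y] : IsNoetherian (KRR.PY n Y) := by
  have h1 : IsLocallyNoetherian (KRR.PY n Y) := LocallyOfFiniteType.isLocallyNoetherian (KRR.pr n Y)
  have h2 : CompactSpace (KRR.PY n Y) := QuasiCompact.compactSpace_of_compactSpace (KRR.pr n Y)
  exact { }

end Conn

section Compl

variable (Y : Scheme.{u})

/-- The support of the ideal of the section is the range of the section. -/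
theorem support_idl (i : Fin 2) : ((idl i Y).support : Set (KRR.PY 1 Y)) = Set.range (sec i Y) := by
  have := isClosedImmersion_sec i Y
  rw [idl, Scheme.Hom.support_ker]
  exact (sec i Y).isClosedEmbedding.isClosed_range.closure_eq

theorem disjoint_range_sec {i j : Fin 2} (hij : i ≠ j) :
    Disjoint (Set.range (sec i Y)) (Set.range (sec j Y)) := by
  rw [← support_idl, ← support_idl, Set.disjoint_iff]
  intro x hx
  have h1 : x ∈ ((idl i Y ⊔ idl j Y).support : Set (KRR.PY 1 Y)) := by
    rw [Scheme.IdealSheafData.support_sup]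
    exact hx
  rw [sup_idl Y hij, Scheme.IdealSheafData.support_top] at h1
  exact h1

/-- The complement of one of the two sections of `P^1_Y` is connected if `Y` is. -/
theorem isPreconnected_compl_sec [PreconnectedSpace Y] {i j : Fin 2} (hij : i ≠ j) :
    IsPreconnected (Set.range (sec j Y))ᶜ := by
  have := isClosedImmersion_sec j Y
  refine isPreconnected_of_section (KRR.pr 1 Y) (sec i Y) (sec i Y).continuous (fun y => ?_)
    (isPreirreducible_fibre 1 Y) _ (sec j Y).isClosedEmbedding.isClosed_range.isOpen_compl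
    (fun y hy => Set.disjoint_left.1 (disjoint_range_sec Y hij) ⟨y, rfl⟩ hy)
  rw [← Scheme.Hom.comp_apply, sec_pr]
  rfl

end Compl

end Groth.Agent.Krr.H458.ConnPn
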