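import Groth.Prelude.Def_KRR
import Groth.Agent.Krr.H458.ConnPn
import Groth.Agent.Divis.BlowUpFormal
import Groth.Agent.Divis.CartierCompl
import Groth.Agent.Flat2C.BlowProper
import Groth.Agent.Sga67.BlowAmple
import Groth.Agent.Krr.H452.QProjPn
import Groth.Agent.Krr.H473.QProj
import Groth.Agent.Krr.H466.ClosedLF

/-!
# The deformation space: basic properties

Let `b : M ⟶ P^1_Y` be the blow-up in an ideal `J` containing the ideal of the section at infinity.

* `isNoetherian_of_isBlowUp`, `connectedSpace_of_isBlowUp`, `exists_isAmple_of_isBlowUp`,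
  `hasEnoughLocFree_of_isBlowUp`: `M` is Noetherian, connected, has an ample module and enough locally free
  modules, if `Y` has these properties.
* `isEff_comap_idl`: the pull-backs to `M` of the ideals of the two sections are effective Cartier.
* `hasEnoughLocFree_of_isPullback`: the same for the exceptional divisor.
-/

set_option autoImplicit false

universe u

open CategoryTheory CategoryTheory.Limits AlgebraicGeometry TopologicalSpace

namespace Groth.Agent.Krr.H458.Defo

open Groth.Agent.Krr.H458.SecP1 Groth.Agent.Krr.H458.ConnPn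

section General

variable {W M : Scheme.{u}} {b : M ⟶ W} {J : W.IdealSheafData}

theorem isFiniteTypeIdeal [IsLocallyNoetherian W] (J : W.IdealSheafData) :
    BlowUp.IsFiniteTypeIdeal J := fun U => by
  have := IsLocallyNoetherian.component_noetherian (X := W) U
  exact IsNoetherian.noetherian _

/-- The complement of (the support of) an effective Cartier divisor is dense. -/
theorem dense_compl_support {I : W.IdealSheafData} (hI : BlowUp.IsEffCartierIdeal I) :
    Dense ((I.support : Set W)ᶜ) := by
  have h1 := Divis.CartierCompl.isSchemeTheoreticallyDominant_compl hI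
  have h2 := Divis.CartierCompl.isAffineHom_compl hI
  have h3 : IsDominant (Scheme.Opens.ι (X := W) I.support.compl) := inferInstance
  have h4 := h3.denseRange
  rw [DenseRange, Scheme.Opens.range_ι] at h4
  exact h4

theorem isProper_b [IsLocallyNoetherian W] (hb : BlowUp.IsBlowUp b J) : IsProper b :=
  Flat2C.BlowProper.isProper_of_isBlowUp hb (isFiniteTypeIdeal J)

/-- The blow-up of a Noetherian scheme is Noetherian. -/
theorem isNoetherian_of_isBlowUp [IsNoetherian W] (hb : BlowUp.IsBlowUp b J) : IsNoetherian M := by
  have := isProper_b hb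
  have h1 : IsLocallyNoetherian M := LocallyOfFiniteType.isLocallyNoetherian b
  have h2 : CompactSpace M := QuasiCompact.compactSpace_of_compactSpace b
  exact { }

/-- The blow-up of a scheme is connected if the complement of the centre is. -/
theorem connectedSpace_of_compl (hb : BlowUp.IsBlowUp b J) (h : _root_.IsConnected ((J.support : Set W)ᶜ)) :
    ConnectedSpace M := by
  let C : W.Opens := J.support.compl
  have hiso : IsIso (b ∣_ C) :=
    Divis.BlowUpFormal.isIso_morphismRestrict_compl_support hb C disjoint_compl_left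
  have hC : Dense ((b ⁻¹ᵁ C : M.Opens) : Set M) := by
    have h := dense_compl_support hb.1
    rw [Scheme.IdealSheafData.support_comap] at h
    exact h
  have h1 : ConnectedSpace C.toScheme :=
    isConnected_iff_connectedSpace.1 h
  have h2 : ConnectedSpace (b ⁻¹ᵁ C).toScheme :=
    (Scheme.homeoOfIso (asIso (b ∣_ C))).symm.surjective.connectedSpace
      (Scheme.homeoOfIso (asIso (b ∣_ C))).symm.continuous
  have h3 : _root_.IsConnected ((b ⁻¹ᵁ C : M.Opens) : Set M) := isConnected_iff_connectedSpace.2 h2
  rw [connectedSpace_iff_univ, ← hC.closure_eq]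
  exact h3.closure

end General

section Defo

variable {Y M : Scheme.{u}} {b : M ⟶ KRR.PY 1 Y} {J : (KRR.PY 1 Y).IdealSheafData}

/-- The complement of a closed subset of the section at infinity is connected. -/
theorem isConnected_compl_support [ConnectedSpace Y] {i j : Fin 2} (hij : i ≠ j) (hJ : idl j Y ≤ J) :
    _root_.IsConnected ((J.support : Set (KRR.PY 1 Y))ᶜ) := by
  have h1 : (J.support : Set (KRR.PY 1 Y)) ⊆ Set.range (sec j Y) := by
    rw [← support_idl]
    exact Scheme.IdealSheafData.support_antitone hJ
  have h2 : Dense ((Set.range (sec j Y))ᶜ : Set (KRR.PY 1 Y)) := by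
    rw [← support_idl]
    exact dense_compl_support (isEff_idl j Y)
  have h3 := isPreconnected_compl_sec Y hij
  refine ⟨?_, h3.subset_closure (Set.compl_subset_compl.2 h1) (by rw [h2.closure_eq]; exact Set.subset_univ _)⟩
  obtain ⟨y⟩ : Nonempty Y := inferInstance
  refine ⟨sec i Y y, fun hy => ?_⟩
  exact Set.disjoint_left.1 (disjoint_range_sec Y hij) ⟨y, rfl⟩ (h1 hy)

theorem isNoetherian_M [IsNoetherian Y] (hb : BlowUp.IsBlowUp b J) : IsNoetherian M := by
  have := isNoetherian_PY 1 Y
  exact isNoetherian_of_isBlowUp hb

/-- The deformation space is connected. -/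
theorem connectedSpace_M [ConnectedSpace Y] (hb : BlowUp.IsBlowUp b J) (hJ : idl 1 Y ≤ J) :
    ConnectedSpace M :=
  connectedSpace_of_compl hb (isConnected_compl_support (i := 0) (by decide) hJ)

theorem exists_isAmple_M [IsNoetherian Y] (hY : ∃ L : Y.Modules, CohB1.IsAmple L)
    (hb : BlowUp.IsBlowUp b J) : ∃ L : M.Modules, CohB1.IsAmple L := by
  have := isNoetherian_PY 1 Y
  have := isProper_b hb
  obtain ⟨L, hL⟩ := Groth.Agent.Krr.H452.QProjPn.exists_isAmple_PY 1 hY
  exact Sga67.BlowAmple.exists_isAmple hb L hL

theorem hasEnoughLocFree_M [IsNoetherian Y] (hY : ∃ L : Y.Modules, CohB1.IsAmple L)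
    (hb : BlowUp.IsBlowUp b J) : KRR.HasEnoughLocFree M := by
  obtain ⟨L, hL⟩ := exists_isAmple_M hY hb
  exact Groth.Agent.Krr.H473.QProj.hasEnoughLocFree_of_isAmple hL

/-- The ideal of a section is contained in the ideal of its restriction to a subscheme. -/
theorem idl_le_ker {X : Scheme.{u}} (f : X ⟶ Y) (i : Fin 2) : idl i Y ≤ (f ≫ sec i Y).ker :=
  Scheme.Hom.le_ker_comp f (sec i Y)

/-- The pull-back to the blow-up of the ideal of a section is an effective Cartier ideal. -/
theorem isEff_comap_idl (hb : BlowUp.IsBlowUp b J) (i : Fin 2) :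
    BlowUp.IsEffCartierIdeal ((idl i Y).comap b) :=
  Divis.BlowUpFormal.isEff_comap_of_isBlowUp hb (isEff_idl i Y)

end Defo

section Closed

variable {M E : Scheme.{u}}

theorem isNoetherian_of_closed [IsNoetherian M] (i : E ⟶ M) [IsClosedImmersion i] : IsNoetherian E := by
  have h1 : IsLocallyNoetherian E := LocallyOfFiniteType.isLocallyNoetherian i
  have h2 : CompactSpace E := QuasiCompact.compactSpace_of_compactSpace i
  exact { }

theorem hasEnoughLocFree_of_closed [IsNoetherian M] (hM : KRR.HasEnoughLocFree M) (i : E ⟶ M)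
    [IsClosedImmersion i] : KRR.HasEnoughLocFree E :=
  Groth.Agent.Krr.H466.ClosedLF.hasEnoughLocFree_of_closed i hM

end Closed

end Groth.Agent.Krr.H458.Defo
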