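import Groth.Prelude.Def_KRR
import Groth.Agent.VarietyB.RestrSeq
import Groth.Agent.Divis.RegImm
import Groth.Agent.Dix.IdealModCartier
import Groth.Agent.Krr.H498.PushCl
import Groth.Agent.Krr.H496.PullK0
import Groth.Agent.Sga67.KvbRing
import Groth.Agent.Sga67.TensorOps
import Groth.Agent.Krr.H482.PullLambda
import Groth.Agent.Ega2.QCohLocal

/-!
# Effective Cartier divisors in `K(W)`

Let `i : Z ⟶ W` be a closed immersion whose ideal `D = i.ker` is an effective Cartier ideal.

* `nonempty_pushPullIso`: `ι_* ι^* E ≅ i_* i^* E` if `i = e ≫ ι`, `e` an isomorphism.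
* `exists_shortExact`: `0 → E ⊗ I → E → i_* i^* E → 0`.
* `isRegularClosedImmersion_of_isEff`: `i` is a regular closed immersion.
* `phi_pushK_pullK0`: `i_K i^K z = z (1 - [I])`; `mul_eq_zero_of_pullK0`: if `i^K z = 0` then `z (1 - [I]) = 0`.
* `push_pull`, `mul_eq_zero_of_pull`: the same for `KRR.IsPushCl`, `KRR.IsPull`.
-/

set_option autoImplicit false

universe v w u

open CategoryTheory CategoryTheory.Limits AlgebraicGeometry Opposite TopologicalSpace

namespace Groth.Agent.Krr.H458.DivSeq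

open Groth.Agent.Krr.H498 Groth.Agent.Krr.H496.PullK0

section Iso

variable {Z Z' W : Scheme.{u}}

/-- Push forward along an isomorphism is an equivalence. -/
theorem isEquivalence_push (e : Z ≅ Z') : (Scheme.Modules.pushforward e.hom).IsEquivalence := by
  have h1 : Scheme.Modules.pushforward e.inv ⋙ Scheme.Modules.pushforward e.hom ≅ 𝟭 _ :=
    Scheme.Modules.pushforwardComp e.inv e.hom ≪≫ Scheme.Modules.pushforwardCongr e.inv_hom_id ≪≫
      Scheme.Modules.pushforwardId Z'
  have h2 : Scheme.Modules.pushforward e.hom ⋙ Scheme.Modules.pushforward e.inv ≅ 𝟭 _ :=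
    Scheme.Modules.pushforwardComp e.hom e.inv ≪≫ Scheme.Modules.pushforwardCongr e.hom_inv_id ≪≫
      Scheme.Modules.pushforwardId Z
  exact (CategoryTheory.Equivalence.mk (Scheme.Modules.pushforward e.hom)
    (Scheme.Modules.pushforward e.inv) h2.symm h1).isEquivalence_functor

/-- `M ≅ e_* e^* M`. -/
noncomputable def unitIso (e : Z ≅ Z') (M : Z'.Modules) :
    M ≅ (Scheme.Modules.pushforward e.hom).obj ((Scheme.Modules.pullback e.hom).obj M) := by
  have := isEquivalence_push e
  have : (Scheme.Modules.pullback e.hom).IsEquivalence :=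
    (Scheme.Modules.pullbackPushforwardAdjunction e.hom).isEquivalence_left_of_isEquivalence_right
  exact asIso ((Scheme.Modules.pullbackPushforwardAdjunction e.hom).unit.app M)

/-- `ι_* ι^* E ≅ i_* i^* E` if `i` and `ι` differ by an isomorphism of the sources. -/
theorem nonempty_pushPullIso (e : Z ≅ Z') (ι : Z' ⟶ W) (i : Z ⟶ W) (h : e.hom ≫ ι = i) (E : W.Modules) :
    Nonempty ((Scheme.Modules.pushforward ι).obj ((Scheme.Modules.pullback ι).obj E) ≅
      (Scheme.Modules.pushforward i).obj ((Scheme.Modules.pullback i).obj E)) := by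
  subst h
  exact ⟨(Scheme.Modules.pushforward ι).mapIso (unitIso e ((Scheme.Modules.pullback ι).obj E)) ≪≫
    (Scheme.Modules.pushforwardComp e.hom ι).app _ ≪≫
    (Scheme.Modules.pushforward (e.hom ≫ ι)).mapIso ((Scheme.Modules.pullbackComp e.hom ι).app E)⟩

end Iso

variable {Z W : Scheme.{u}} (i : Z ⟶ W) [IsClosedImmersion i]

/-- `0 → E ⊗ I → E → i_* i^* E → 0` for a closed immersion `i` with ideal `I`. -/
theorem exists_shortExact {E : W.Modules} (hE : FlatMod.IsFinLocFree E) :
    ∃ (M : W.Modules) (f : CohB1.tensorMod E (ClSub.idealMod i.ker) ⟶ E) (g : E ⟶ M) (h : f ≫ g = 0),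
      (ShortComplex.mk f g h).ShortExact ∧
        Nonempty (M ≅ (Scheme.Modules.pushforward i).obj ((Scheme.Modules.pullback i).obj E)) := by
  have hB := Groth.Agent.VarietyB.TensCoh.HasBases.of_isFinLocFree hE
  exact ⟨_, _, _, _, Groth.Agent.VarietyB.RestrSeq.restrSeq_shortExact hB i.ker,
    nonempty_pushPullIso (asIso i.toImage) i.ker.subschemeι i i.toImage_imageι E⟩

/-- A closed immersion with effective Cartier ideal is regular. -/
theorem isRegularClosedImmersion_of_isEff (hD : BlowUp.IsEffCartierIdeal i.ker) :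
    Mor2.IsRegularClosedImmersion i := by
  rw [Groth.Agent.Divis.RegImm.isRegularClosedImmersion_iff]
  refine ⟨inferInstance, fun z => ?_⟩
  obtain ⟨U, hxU, f, hf, hI⟩ := hD (i z)
  refine ⟨U, hxU, [f], ?_, ?_⟩
  · rw [RingTheory.Sequence.isWeaklyRegular_singleton_iff]
    intro x y hxy
    exact sub_eq_zero.1 ((mem_nonZeroDivisors_iff.1 hf).1 (x - y) (by
      rw [mul_sub]; exact sub_eq_zero.2 hxy))
  · rw [hI, Ideal.ofList_singleton]

section K

variable [CompactSpace W] [QuasiSeparatedSpace W] (hW : KRR.HasEnoughLocFree W)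

/-- The class of `i_* i^* E`. -/
theorem rcl_push_pull (hD : BlowUp.IsEffCartierIdeal i.ker) {E : W.Modules} (hE : FlatMod.IsFinLocFree E)
    (h : KRR.HasLFRes ((Scheme.Modules.pushforward i).obj ((Scheme.Modules.pullback i).obj E))) :
    ResClass.rcl hW ((Scheme.Modules.pushforward i).obj ((Scheme.Modules.pullback i).obj E)) =
      KRR.cl W E - KRR.cl W (CohB1.tensorMod E (ClSub.idealMod i.ker)) := by
  obtain ⟨M, f, g, h0, hS, ⟨e⟩⟩ := exists_shortExact i hE
  have hI : FlatMod.IsFinLocFree (ClSub.idealMod i.ker) :=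
    Groth.Agent.Krr.H482.PullLambda.isFinLocFree_of_rank
      (Groth.Agent.Ega2.QCohLocal.isFinLocFreeOfRank_one_iff.mpr
        (Groth.Agent.Dix.IdealModCartier.isInvertible_idealMod hD))
  have hEI := Groth.Agent.Sga67.LocBasis.isFinLocFree_tensorMod hE hI
  have p1 : DCoh.IsPerfect (DCoh.inD W (CohB1.tensorMod E (ClSub.idealMod i.ker))) :=
    PerfA.PerfLocal.isPerfect_inD_of_isFinLocFree hEI
  have p2 : DCoh.IsPerfect (DCoh.inD W E) := PerfA.PerfLocal.isPerfect_inD_of_isFinLocFree hE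
  have p3 : DCoh.IsPerfect (DCoh.inD W M) := (ResPerf.isPerfect_three hS).1 p1 p2
  have h1 := ResClass.rcl_shortExact' hW hS p1 p2 p3
  have h2 := ResClass.rcl_iso hW e.symm h
  rw [h2, eq_sub_iff_add_eq, ← ResClass.rcl_of_isFinLocFree hW hE,
    ← ResClass.rcl_of_isFinLocFree hW hEI, add_comm]
  exact h1.symm

variable {K : Type v} [CommRing K] [LambdaRing.LambdaOps K] {P : LambdaRing.PosStructure K}
  {φ : SGA6.Kvb W →+ K} (hK : KRR.IsModel W K P φ)

include hK in
/-- `i_K i^K z = z (1 - [I])`. -/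
theorem phi_pushK_pullK0 (hi : PushCl.GoodPush i) (hD : BlowUp.IsEffCartierIdeal i.ker) (z : SGA6.Kvb W) :
    φ (PushCl.pushK i hW hi (pullK0 i z)) = φ z * (1 - φ (KRR.cl W (ClSub.idealMod i.ker))) := by
  induction z using Groth.Agent.Sga67.KvbRing.K_induction with
  | h0 => simp only [map_zero, zero_mul]
  | hneg x hx => rw [map_neg, map_neg, map_neg, map_neg, hx, neg_mul]
  | hadd x y hx hy => rw [map_add, map_add, map_add, map_add, hx, hy, add_mul]
  | hc E hE =>
    have hI : FlatMod.IsFinLocFree (ClSub.idealMod i.ker) :=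
      Groth.Agent.Krr.H482.PullLambda.isFinLocFree_of_rank
        (Groth.Agent.Ega2.QCohLocal.isFinLocFreeOfRank_one_iff.mpr
          (Groth.Agent.Dix.IdealModCartier.isInvertible_idealMod hD))
    have hE' := Groth.Agent.Krr.H482.PullLambda.isFinLocFree_pullback i hE
    have h1 : pullK0 i (Groth.Agent.Sga67.KvbRing.c E) = KRR.cl Z ((Scheme.Modules.pullback i).obj E) :=
      pullK0_cl i hE
    rw [h1, PushCl.pushK_cl i hW hi hE', rcl_push_pull i hW hD hE (hi _ hE'), map_sub, mul_sub, mul_one]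
    exact congrArg (fun t => φ (KRR.cl W E) - t) (hK.map_mul E (ClSub.idealMod i.ker) hE hI).symm

include hW hK in
/-- If `i^K z = 0` then `z (1 - [I]) = 0`. -/
theorem mul_eq_zero_of_pullK0 (hi : PushCl.GoodPush i) (hD : BlowUp.IsEffCartierIdeal i.ker)
    {z : SGA6.Kvb W} (hz : pullK0 i z = 0) :
    φ z * (1 - φ (KRR.cl W (ClSub.idealMod i.ker))) = 0 := by
  rw [← phi_pushK_pullK0 i hW hK hi hD z, hz, map_zero, map_zero]

end K

section Models

variable {KZ : Type v} [CommRing KZ] {φZ : SGA6.Kvb Z →+ KZ}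
  {K : Type w} [CommRing K] [LambdaRing.LambdaOps K] {P : LambdaRing.PosStructure K}
  {φ : SGA6.Kvb W →+ K}

omit [IsClosedImmersion i] [LambdaRing.LambdaOps K] in
theorem isPull_apply {q : K →+ KZ} (hq : KRR.IsPull i φ φZ q) (z : SGA6.Kvb W) :
    q (φ z) = φZ (pullK0 i z) := by
  have e : q.comp φ = φZ.comp (pullK0 i) := by
    refine Groth.Agent.Sga67.KvbRing.hom_ext' fun E hE => ?_
    have h1 := hq E hE
    have h2 := pullK0_cl i hE
    exact h1.trans (congrArg φZ h2.symm)
  exact DFunLike.congr_fun e z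

variable [CompactSpace W] [QuasiSeparatedSpace W] (hW : KRR.HasEnoughLocFree W)
  (hK : KRR.IsModel W K P φ)

include hW hK

/-- `i_K i^K z = z (1 - [I])`. -/
theorem push_pull (hi : PushCl.GoodPush i) (hD : BlowUp.IsEffCartierIdeal i.ker)
    {q : K →+ KZ} (hq : KRR.IsPull i φ φZ q) {g : KZ →+ K} (hg : KRR.IsPushCl i φZ φ g) (z : K) :
    g (q z) = z * (1 - φ (KRR.cl W (ClSub.idealMod i.ker))) := by
  obtain ⟨z, rfl⟩ := hK.bijective.2 z
  rw [isPull_apply i hq, PushCl.isPushCl_apply i hW φZ φ hi hg, phi_pushK_pullK0 i hW hK hi hD z]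

/-- If `i^K z = 0` then `z (1 - [I]) = 0`. -/
theorem mul_eq_zero_of_pull (hi : PushCl.GoodPush i) (hD : BlowUp.IsEffCartierIdeal i.ker)
    {q : K →+ KZ} (hq : KRR.IsPull i φ φZ q) (hφZ : Function.Injective φZ) {z : K} (hz : q z = 0) :
    z * (1 - φ (KRR.cl W (ClSub.idealMod i.ker))) = 0 := by
  obtain ⟨z, rfl⟩ := hK.bijective.2 z
  refine mul_eq_zero_of_pullK0 i hW hK hi hD ?_
  rw [isPull_apply i hq] at hz
  exact hφZ (hz.trans (map_zero φZ).symm)

end Models

end Groth.Agent.Krr.H458.DivSeq
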