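import Groth.Prelude.Def_KRR
import Groth.Agent.Krr.H482.PullFinal
import Groth.Agent.Krr.H495.Model
import Groth.Agent.Krr.H450.MapOps
import Groth.Agent.Krr.H496.PullK0

/-!
# Pull-back from a model of `K(Y)` to the λ-ring `KR X`, `X` any scheme

* `pullR f hKY : KY →+* KR X` with `pullR_apply : pullR f hKY (φY z) = toKR X (f^K z)`;
* `commAt_pullR`: it is a λ-homomorphism;
* `pullK0_adams_eq_zero`: if `f^K z = 0` then `f^K (ψ^j z) = 0` for `j ≥ 1`.
-/

set_option autoImplicit false

universe v w u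

open CategoryTheory CategoryTheory.Limits AlgebraicGeometry

namespace Groth.Agent.Krr.H458.LamKR

open Groth.Agent.Krr.H482.LamAlg Groth.Agent.Krr.H482.PullLambda Groth.Agent.Krr.H482.PullFinal
  Groth.Agent.Krr.H496.PullK0 Groth.Agent.Sga67.KvbRing Groth.Agent.Sga67.TensorOps
  Groth.Agent.Krr.H482 Groth.Agent.Krr.H495.Model Groth.Agent.Sga67.LocBasis

variable {X Y : Scheme.{u}} (f : X ⟶ Y)
  {KY : Type v} [CommRing KY] [LambdaRing.LambdaOps KY] {PY : LambdaRing.PosStructure KY}
  {φY : SGA6.Kvb Y →+ KY} (hKY : KRR.IsModel Y KY PY φY)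

/-- The pull-back as an additive map. -/
noncomputable def pullA : KY →+ KR X :=
  ((toKR X).toAddMonoidHom.comp (pullK0 f)).comp
    (AddEquiv.ofBijective φY hKY.bijective).symm.toAddMonoidHom

theorem pullA_apply (z : SGA6.Kvb Y) : pullA f hKY (φY z) = toKR X (pullK0 f z) := by
  have h1 : (AddEquiv.ofBijective φY hKY.bijective).symm (φY z) = z :=
    (AddEquiv.ofBijective φY hKY.bijective).symm_apply_apply z
  change toKR X (pullK0 f ((AddEquiv.ofBijective φY hKY.bijective).symm (φY z))) = _
  rw [h1]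

theorem pullA_cl {E : Y.Modules} (hE : FlatMod.IsFinLocFree E) :
    pullA f hKY (φY (KRR.cl Y E)) = toKR X (c ((Scheme.Modules.pullback f).obj E)) := by
  rw [pullA_apply]
  exact congrArg (toKR X) (pullK0_cl f hE)

theorem pullA_one : pullA f hKY 1 = 1 := by
  rw [← hKY.map_one, pullA_cl f hKY isFinLocFree_structureModule, ← toKR_one,
    c_iso (PullTens.pullUnitIso f) (isFinLocFree_pullback f isFinLocFree_structureModule)]

theorem pullA_mul (x y : KY) : pullA f hKY (x * y) = pullA f hKY x * pullA f hKY y := by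
  refine model_induction hKY (C := fun x => pullA f hKY (x * y) = pullA f hKY x * pullA f hKY y)
    (fun m E _ hE => ?_) (fun a b ha hb => ?_) x
  · refine model_induction hKY (C := fun y => pullA f hKY (φY (KRR.cl Y E) * y) =
      pullA f hKY (φY (KRR.cl Y E)) * pullA f hKY y) (fun n F _ hF => ?_) (fun a b ha hb => ?_) y
    · have hE' := isFinLocFree_of_rank hE
      have hF' := isFinLocFree_of_rank hF
      have hEF : FlatMod.IsFinLocFree (((DCoh.tensorBi (X := Y)).obj E).obj F) :=
        isFinLocFree_tensorMod hE' hF'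
      rw [hKY.map_mul E F hE' hF', pullA_cl f hKY hEF, pullA_cl f hKY hE', pullA_cl f hKY hF',
        toKR_c_mul X (isFinLocFree_pullback f hE') (isFinLocFree_pullback f hF'),
        c_iso (PullTens.pullTensorIso f E F) (isFinLocFree_pullback f hEF)]
      rfl
    · rw [mul_sub, map_sub, ha, hb, map_sub, mul_sub]
  · rw [sub_mul, map_sub, ha, hb, map_sub, sub_mul]

/-- The pull-back as a ring homomorphism. -/
noncomputable def pullR : KY →+* KR X :=
  { pullA f hKY with
    map_one' := pullA_one f hKY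
    map_mul' := pullA_mul f hKY }

theorem pullR_apply (z : SGA6.Kvb Y) : pullR f hKY (φY z) = toKR X (pullK0 f z) :=
  pullA_apply f hKY z

/-- The pull-back commutes with the λ-operations. -/
theorem commAt_pullR (x : KY) : CommAt (pullR f hKY) x := by
  refine Groth.Agent.Krr.H482.PullLambda.model_induction hKY (C := fun x => CommAt (pullR f hKY) x)
    (fun m E _ hE => ?_) (fun a b ha hb => ha.sub hb) x
  intro i
  have hE' := isFinLocFree_of_rank hE
  obtain ⟨L, hL'', hL⟩ := Groth.Agent.Krr.H495.ExtExist.exists_isExtPow i E hE'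
  have hL' : FlatMod.IsFinLocFree L := hL''
  have h1 : pullR f hKY (φY (KRR.cl Y E)) = toKR X (c ((Scheme.Modules.pullback f).obj E)) :=
    pullA_cl f hKY hE'
  have h2 : pullR f hKY (φY (KRR.cl Y L)) = toKR X (c ((Scheme.Modules.pullback f).obj L)) :=
    pullA_cl f hKY hL'
  rw [hKY.map_lam i E L hE' hL' hL, h2, h1, lam_toKR X i _ _ (isFinLocFree_pullback f hE')
    (isExtPow_pullback f hE' hL)]

theorem lamSeries_zero {K : Type*} [CommRing K] [LambdaRing.LambdaOps K] :
    LambdaRing.lamSeries (0 : K) = 1 := by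
  have h := lamSeries_add (0 : K) 0
  rw [add_zero] at h
  have hu := isUnit_lamSeries (0 : K)
  exact (hu.mul_left_cancel (by rw [mul_one]; exact h)).symm

theorem psi_zero {K : Type*} [CommRing K] [LambdaRing.LambdaOps K] (j : ℕ) :
    Groth.Agent.Krr.H450.MapOps.psi j (0 : K) = 0 := by
  have h1 : Groth.Agent.Krr.H450.MapOps.R (0 : K) = 1 := by
    rw [Groth.Agent.Krr.H450.MapOps.R, lamSeries_zero, map_one]
  have h2 : PowerSeries.derivative K (1 : PowerSeries K) = 0 := by
    rw [← map_one (PowerSeries.C (R := K))]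
    simp
  rw [Groth.Agent.Krr.H450.MapOps.psi, h1, h2, mul_zero, zero_mul, neg_zero, map_zero]

include hKY in
/-- If `f^K z = 0` then `f^K (ψ^j z) = 0` for `j ≥ 1`. -/
theorem pullK0_adams_eq_zero {j : ℕ} (hj : 1 ≤ j) {z w : SGA6.Kvb Y} (hz : pullK0 f z = 0)
    (hw : φY w = LambdaRing.adams PY j (φY z)) : pullK0 f w = 0 := by
  have h1 : toKR X (pullK0 f w) = 0 := by
    rw [← pullR_apply f hKY w, hw, Groth.Agent.Krr.H450.MapOps.adams_eq_psi PY hj,
      Groth.Agent.Krr.H450.MapOps.map_psi (commAt_pullR f hKY _) j, pullR_apply f hKY z, hz, map_zero,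
      psi_zero]
  exact (toKR X).injective (h1.trans (map_zero _).symm)

end Groth.Agent.Krr.H458.LamKR
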