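import Groth.Prelude.Def_KRR
import Groth.Agent.Krr.H489.PullRes
import Groth.Agent.Krr.H498.PushCl
import Groth.Agent.Krr.H496.PullK0
import Groth.Agent.CycB.PushStalk
import Groth.Agent.PerfB.FlatPull
import Groth.Agent.Sga67.KvbRing

/-!
# Pull-back of classes of Tor-independent modules; push-forward and disjoint subschemes

* `pullK0_rcl`: `φ^K [N] = [φ^* N]` if `N` is Tor-independent of `φ` (and has a finite locally free resolution).
* `pullK0_pushK_of_disjoint`: `b^K F_K = 0` if `F : P ⟶ M` is a closed immersion with range disjoint from the range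
  of `b : B ⟶ M`.
-/

set_option autoImplicit false

universe v w u

open CategoryTheory CategoryTheory.Limits AlgebraicGeometry Opposite TopologicalSpace

namespace Groth.Agent.Krr.H458.OffRes

open Groth.Agent.Krr.H498 Groth.Agent.Krr.H496.PullK0 Groth.Agent.Krr.H489.TorAdapted
  Groth.Agent.Krr.H489.PullRes

section TI

variable {X Y : Scheme.{u}} (φ : Y ⟶ X) [CompactSpace X] [QuasiSeparatedSpace X]
  [CompactSpace Y] [QuasiSeparatedSpace Y] (hX : KRR.HasEnoughLocFree X) (hY : KRR.HasEnoughLocFree Y)

/-- `φ^K [N] = [φ^* N]` for `N` Tor-independent of `φ`. -/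
theorem pullK0_rcl {N : X.Modules} (hN : KRR.HasLFRes N) (hT : TI φ N) :
    pullK0 φ (ResClass.rcl hX N) = ResClass.rcl hY ((Scheme.Modules.pullback φ).obj N) := by
  obtain ⟨n, L, π, hL⟩ := hN
  have h1 := isLFRes_pullback hL hT
  rw [ResClass.rcl_eq_sum hX hL, ResClass.rcl_eq_sum hY h1, map_sum]
  refine Finset.sum_congr rfl fun k _ => ?_
  rw [map_zsmul]
  congr 1
  exact pullK0_cl φ (hL.finLocFree k)

end TI

section Disjoint

variable {P M B : Scheme.{u}} (F : P ⟶ M) [IsClosedImmersion F] (b : B ⟶ M)

theorem subsingleton_stalk (G : P.Modules) (hd : Disjoint (Set.range F) (Set.range b)) (y : B) :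
    Subsingleton (((Scheme.Modules.pushforward F).obj G).presheaf.stalk (b y)) := by
  refine Groth.Agent.CycB.PushStalk.subsingleton_stalk_push F G (b y) ?_
  rw [F.isClosedEmbedding.isClosed_range.closure_eq]
  exact fun h => Set.disjoint_left.1 hd h ⟨y, rfl⟩

theorem ti_of_disjoint (G : P.Modules) (hd : Disjoint (Set.range F) (Set.range b)) :
    TI b ((Scheme.Modules.pushforward F).obj G) := fun y =>
  tiAt_of_subsingleton y (subsingleton_stalk F b G hd y)

theorem isZero_of_disjoint (G : P.Modules) (hd : Disjoint (Set.range F) (Set.range b)) :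
    IsZero ((Scheme.Modules.pullback b).obj ((Scheme.Modules.pushforward F).obj G)) := by
  rw [Groth.Agent.PerfB.FlatPull.isZero_iff_subsingleton]
  intro y
  have := subsingleton_stalk F b G hd y
  exact Groth.Agent.PerfB.FlatPull.subsingleton_stalk_pullback b _ y

variable [CompactSpace M] [QuasiSeparatedSpace M] [CompactSpace B] [QuasiSeparatedSpace B]
  (hM : KRR.HasEnoughLocFree M) (hB : KRR.HasEnoughLocFree B)

include hB in
/-- `b^K F_K = 0` if `F(P)` and `b(B)` are disjoint. -/
theorem pullK0_pushK_of_disjoint (hF : PushCl.GoodPush F) (hd : Disjoint (Set.range F) (Set.range b))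
    (p : SGA6.Kvb P) : pullK0 b (PushCl.pushK F hM hF p) = 0 := by
  induction p using Groth.Agent.Sga67.KvbRing.K_induction with
  | h0 => simp only [map_zero]
  | hneg x hx => rw [map_neg, map_neg, hx, neg_zero]
  | hadd x y hx hy => rw [map_add, map_add, hx, hy, add_zero]
  | hc E hE =>
    have h1 : PushCl.pushK F hM hF (Groth.Agent.Sga67.KvbRing.c E) =
        ResClass.rcl hM ((Scheme.Modules.pushforward F).obj E) := PushCl.pushK_cl F hM hF hE
    rw [h1, pullK0_rcl b hM hB (hF E hE) (ti_of_disjoint F b E hd)]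
    exact ResClass.rcl_isZero hB (isZero_of_disjoint F b E hd)

end Disjoint

end Groth.Agent.Krr.H458.OffRes
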