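import Groth.Prelude.Def_KRR
import Groth.Agent.Krr.H458.DivSeq
import Groth.Agent.Krr.H458.OffRes
import Groth.Agent.Krr.H458.LamKR
import Groth.Agent.Krr.H458.Defo
import Groth.Agent.Krr.H501.DefP1

/-!
# The divisor relations on the deformation space

`exists_ab`: for the deformation space `b : M ⟶ P^1_Y` of a closed immersion `f : X ⟶ Y` there are classes `a`
(of the ideal of the exceptional divisor `E`) and `b` (of the ideal of the strict transform `B` of the fibre at
infinity) such that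
* `z (1 - a) = 0` if `z` restricts to `0` on `E`;
* `F_K p (1 - b) = 0` and `ψ^j(F_K p) (1 - b) = 0`, as `F(P^1_X)` does not meet `B`;
* `g_{0,K} g_0^K z = z (1 - a b)`, as the fibres over `0` and `∞` are linearly equivalent.
-/

set_option autoImplicit false

universe v1 v2 v3 v4 v w u

open CategoryTheory CategoryTheory.Limits AlgebraicGeometry Opposite TopologicalSpace

namespace Groth.Agent.Krr.H458.HDiv

open Groth.Agent.Krr.H458.SecP1 Groth.Agent.Krr.H498 Groth.Agent.Krr.H496.PullK0 BlowUp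

section General

variable {M P : Scheme.{u}} [IsNoetherian M] (hMe : KRR.HasEnoughLocFree M)
  {K : Type v} [CommRing K] [LambdaRing.LambdaOps K] {PM : LambdaRing.PosStructure K}
  {φ : SGA6.Kvb M →+ K} (hK : KRR.IsModel M K PM φ)

omit [AlgebraicGeometry.IsNoetherian M] in
include hK in
/-- The class of a product of effective Cartier ideals. -/
theorem phi_cl_mul {I J : M.IdealSheafData} (hI : IsEffCartierIdeal I) (hJ : IsEffCartierIdeal J) :
    φ (KRR.cl M (ClSub.idealMod (I * J))) =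
      φ (KRR.cl M (ClSub.idealMod I)) * φ (KRR.cl M (ClSub.idealMod J)) := by
  have h1 : ∀ {D : M.IdealSheafData}, IsEffCartierIdeal D → FlatMod.IsFinLocFree (ClSub.idealMod D) :=
    fun hD => Groth.Agent.Krr.H482.PullLambda.isFinLocFree_of_rank
      (Groth.Agent.Ega2.QCohLocal.isFinLocFreeOfRank_one_iff.mpr
        (Groth.Agent.Dix.IdealModCartier.isInvertible_idealMod hD))
  obtain ⟨e⟩ := Groth.Agent.Dix.IdealModCartier.idealMod_mul hI hJ
  have h2 := hK.map_mul _ _ (h1 hI) (h1 hJ)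
  refine Eq.trans ?_ h2.symm
  exact congrArg φ (Groth.Agent.Sga67.KvbRing.c_iso e
    (Groth.Agent.Sga67.LocBasis.isFinLocFree_tensorMod (h1 hI) (h1 hJ))).symm

include hMe hK in
/-- Classes supported off an effective Cartier divisor are killed by `1 - [I]`, and so are their images under `ψ^j`. -/
theorem off_divisor (F : P ⟶ M) [IsClosedImmersion F] (hF : PushCl.GoodPush F) {I : M.IdealSheafData}
    (hI : IsEffCartierIdeal I) (hFI : I.comap F = ⊤) {j : ℕ} (hj : 1 ≤ j) (p : SGA6.Kvb P) :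
    LambdaRing.adams PM j (φ (PushCl.pushK F hMe hF p)) * (1 - φ (KRR.cl M (ClSub.idealMod I))) = 0 ∧
      φ (PushCl.pushK F hMe hF p) * (1 - φ (KRR.cl M (ClSub.idealMod I))) = 0 := by
  have hk : I.subschemeι.ker = I := I.ker_subschemeι
  have hB : IsNoetherian I.subscheme := Groth.Agent.Krr.H458.Defo.isNoetherian_of_closed I.subschemeι
  have hBe : KRR.HasEnoughLocFree I.subscheme :=
    Groth.Agent.Krr.H458.Defo.hasEnoughLocFree_of_closed hMe I.subschemeι
  have hD : IsEffCartierIdeal I.subschemeι.ker := by rw [hk]; exact hI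
  have hg : PushCl.GoodPush I.subschemeι := PushCl.goodPush_of_regular _ hMe
    (Groth.Agent.Krr.H458.DivSeq.isRegularClosedImmersion_of_isEff _ hD)
  have hdis : Disjoint (Set.range F) (Set.range I.subschemeι) := by
    rw [Scheme.IdealSheafData.range_subschemeι, Set.disjoint_left]
    rintro _ ⟨x, rfl⟩ hx
    have h1 : x ∈ (I.comap F).support := by
      rw [Scheme.IdealSheafData.support_comap]
      exact hx
    rw [hFI, Scheme.IdealSheafData.support_top] at h1
    exact h1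
  have hz : pullK0 I.subschemeι (PushCl.pushK F hMe hF p) = 0 :=
    Groth.Agent.Krr.H458.OffRes.pullK0_pushK_of_disjoint F I.subschemeι hMe hBe hF hdis p
  obtain ⟨w, hw⟩ := hK.bijective.2 (LambdaRing.adams PM j (φ (PushCl.pushK F hMe hF p)))
  have hz' : pullK0 I.subschemeι w = 0 :=
    Groth.Agent.Krr.H458.LamKR.pullK0_adams_eq_zero I.subschemeι hK hj hz hw
  have r1 := Groth.Agent.Krr.H458.DivSeq.mul_eq_zero_of_pullK0 I.subschemeι hMe hK hg hD hz
  have r2 := Groth.Agent.Krr.H458.DivSeq.mul_eq_zero_of_pullK0 I.subschemeι hMe hK hg hD hz'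
  rw [hk] at r1 r2
  rw [← hw]
  exact ⟨r2, r1⟩

end General

section Main

variable {X Y M E : Scheme.{u}} [IsNoetherian Y]
  {KM : Type v} [CommRing KM] [LambdaRing.LambdaOps KM] {PM : LambdaRing.PosStructure KM}
  {φM : SGA6.Kvb M →+ KM}
  {KP : Type v1} [CommRing KP] {φP : SGA6.Kvb (KRR.PY 1 X) →+ KP}
  {KY : Type v2} [CommRing KY] {φY : SGA6.Kvb Y →+ KY}
  {KE : Type v3} [CommRing KE] {φE : SGA6.Kvb E →+ KE}

/-- **The divisor relations on the deformation space.** -/
theorem exists_ab (hY : ∃ L : Y.Modules, CohB1.IsAmple L) (f : X ⟶ Y) [IsClosedImmersion f]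
    {b : M ⟶ KRR.PY 1 Y} (hb : IsBlowUp b (f ≫ sec 1 Y).ker)
    {F : KRR.PY 1 X ⟶ M} (hFr : Mor2.IsRegularClosedImmersion F) (hF : F ≫ b = KRR.projSpaceMap 1 f)
    {g0 : Y ⟶ M} (hg0 : g0 ≫ b = sec 0 Y)
    {iE : E ⟶ M} {ψE : E ⟶ X} (hE : IsPullback iE ψE b (f ≫ sec 1 Y))
    (hKM : KRR.IsModel M KM PM φM) (hφP : Function.Surjective φP) (hφE : Function.Injective φE)
    {j : ℕ} (hj : 1 ≤ j)
    {gF : KP →+ KM} (hgF : KRR.IsPushCl F φP φM gF)
    {gg0 : KY →+ KM} (hgg0 : KRR.IsPushCl g0 φY φM gg0)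
    {qg0 : KM →+ KY} (hqg0 : KRR.IsPull g0 φM φY qg0)
    {qE : KM →+ KE} (hqE : KRR.IsPull iE φM φE qE) :
    ∃ a b : KM, (∀ z, qE z = 0 → z * (1 - a) = 0) ∧
      (∀ p, LambdaRing.adams PM j (gF p) * (1 - b) = 0) ∧
      (∀ p, gF p * (1 - b) = 0) ∧ (∀ z, gg0 (qg0 z) = z * (1 - a * b)) := by
  have hPY := Groth.Agent.Krr.H458.ConnPn.isNoetherian_PY 1 Y
  have hM := Groth.Agent.Krr.H458.Defo.isNoetherian_M hb
  have hMe := Groth.Agent.Krr.H458.Defo.hasEnoughLocFree_M hY hb
  have hFc : IsClosedImmersion F := hFr.1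
  obtain ⟨𝓑, h𝓑, hmul, hcom⟩ := Groth.Agent.Krr.H501.DefP1.exists_𝓑 hb
  have hJ : IsEffCartierIdeal ((f ≫ sec 1 Y).ker.comap b) := hb.1
  refine ⟨φM (KRR.cl M (ClSub.idealMod ((f ≫ sec 1 Y).ker.comap b))),
    φM (KRR.cl M (ClSub.idealMod 𝓑)), ?_, ?_, ?_, ?_⟩
  · intro z hz
    have hiE : IsClosedImmersion iE := MorphismProperty.of_isPullback hE.flip inferInstance
    have hk : iE.ker = (f ≫ sec 1 Y).ker.comap b := Groth.Agent.Fga.HilbClosed.ker_of_isPullback hE.flip
    have hD : IsEffCartierIdeal iE.ker := by rw [hk]; exact hJ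
    have hg : PushCl.GoodPush iE := PushCl.goodPush_of_regular _ hMe
      (Groth.Agent.Krr.H458.DivSeq.isRegularClosedImmersion_of_isEff _ hD)
    have h1 := Groth.Agent.Krr.H458.DivSeq.mul_eq_zero_of_pull iE hMe hKM hg hD hqE hφE hz
    rw [hk] at h1
    exact h1
  · intro p
    obtain ⟨p, rfl⟩ := hφP p
    have hg := PushCl.goodPush_of_regular F hMe hFr
    rw [PushCl.isPushCl_apply F hMe φP φM hg hgF]
    exact (off_divisor hMe hKM F hg h𝓑 (hcom F hF) hj p).1
  · intro p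
    obtain ⟨p, rfl⟩ := hφP p
    have hg := PushCl.goodPush_of_regular F hMe hFr
    rw [PushCl.isPushCl_apply F hMe φP φM hg hgF]
    exact (off_divisor hMe hKM F hg h𝓑 (hcom F hF) hj p).2
  · intro z
    obtain ⟨hgc, -, hk⟩ := Groth.Agent.Krr.H501.DefP1.g₀_prop hb hg0
    have h0 := Groth.Agent.Krr.H458.Defo.isEff_comap_idl hb 0
    have h1 := Groth.Agent.Krr.H458.Defo.isEff_comap_idl hb 1
    have hD : IsEffCartierIdeal g0.ker := by rw [hk]; exact h0
    have hg : PushCl.GoodPush g0 := PushCl.goodPush_of_regular _ hMe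
      (Groth.Agent.Krr.H458.DivSeq.isRegularClosedImmersion_of_isEff _ hD)
    rw [Groth.Agent.Krr.H458.DivSeq.push_pull g0 hMe hKM hg hD hqg0 hgg0 z, hk]
    obtain ⟨e⟩ := nonempty_idealMod_comap b h0 h1
    have h2 : KRR.cl M (ClSub.idealMod ((idl 0 Y).comap b)) =
        KRR.cl M (ClSub.idealMod ((idl 1 Y).comap b)) :=
      Groth.Agent.Sga67.KvbRing.c_iso e (Groth.Agent.Krr.H482.PullLambda.isFinLocFree_of_rank
        (Groth.Agent.Ega2.QCohLocal.isFinLocFreeOfRank_one_iff.mpr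
          (Groth.Agent.Dix.IdealModCartier.isInvertible_idealMod h0)))
    rw [h2, ← hmul, phi_cl_mul hKM h𝓑 hJ, mul_comm (φM (KRR.cl M (ClSub.idealMod 𝓑)))]

end Main

end Groth.Agent.Krr.H458.HDiv
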