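import Groth.Prelude.Def_KRR
import Groth.Agent.CohqA.HDIZero
import Groth.Agent.CohqA.HOpen
import Groth.Agent.Sga67.TwistOver
import Groth.Agent.Sga67.TwistProj
import Groth.Agent.Sga67.PullVan
import Groth.Agent.Ega3A.PChart
import Groth.Agent.Sga67.K0Basic
import Groth.Agent.Sga67.PushTwist

/-!
# Regularity of `O(m) ⊗ p^* E`, `m ≥ 0`, on `P^n_Y`, and of the structure sheaf

* `isZero_Rpush_of_charts`: `R^q p_* F = 0` if `H^q(P^n_{Γ(V)}, F|) = 0` for all affine opens `V` of `Y`.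
* `isRegSheaf_of_reg`: `F` is regular if it is `0`-regular on all affine charts.
* `isRegSheaf_twF_pullback`, `isRegSheaf_structureModule`.
* `cl_push_structureModule`: `[p_* O_P] = [O_Y]`.
-/

set_option autoImplicit false

universe u

open CategoryTheory CategoryTheory.Limits AlgebraicGeometry

namespace Groth.Agent.Krr.H458.RegStr

open Groth.Agent.Sga67.TwistOver Groth.Agent.Sga67.TwistProj Groth.Agent.Ega3A.PChart
open Groth.Agent.Sga67.CMReg (Reg)
open Groth.Agent.Sga67 Groth.Agent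

variable (n : ℕ) (Y : Scheme.{u})

/-- The preimage of an affine open is the image of the chart. -/
theorem preimage_eq_image {V : Y.Opens} (hV : IsAffineOpen V) :
    KRR.pr n Y ⁻¹ᵁ V = (chart n hV.fromSpec) ''ᵁ ⊤ := by
  rw [Scheme.Hom.image_top_eq_opensRange]
  refine le_antisymm (PushTwist.le_range (r := n) hV) ?_
  intro x hx
  obtain ⟨y, rfl⟩ := hx
  have h1 := PushTwist.preimage_chart (r := n) hV
  have h2 : y ∈ chart n hV.fromSpec ⁻¹ᵁ (CohB1.ProjSpaceOver.toBase n Y ⁻¹ᵁ V) := by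
    rw [h1]; trivial
  exact h2

/-- `R^q p_* F = 0` if the cohomology vanishes on the charts over all affine opens. -/
theorem isZero_Rpush_of_charts (F : (KRR.PY n Y).Modules) (q : ℕ)
    (h : ∀ (V : Y.Opens) (hV : IsAffineOpen V),
      Subsingleton (Coh.HH (CohB1.ProjSpace n Γ(Y, V)) (F.restrict (chart n hV.fromSpec)) q)) :
    IsZero ((Coh.RpushAb (KRR.pr n Y) q).obj (Coh.toAb F)) := by
  refine CohqA.HDIZero.isZero_RpushAb (KRR.pr n Y) _ q {V | IsAffineOpen V} Y.isBasis_affineOpens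
    fun V hV => ?_
  have h1 := h V hV
  exact (CohqA.HOpen.HHEquiv (chart n (IsAffineOpen.fromSpec hV)) F (KRR.pr n Y ⁻¹ᵁ V)
    (preimage_eq_image n Y hV) q).toEquiv.subsingleton

/-- A module which is quasi-coherent and `0`-regular on all affine charts is regular. -/
theorem isRegSheaf_of_reg (F : (KRR.PY n Y).Modules) (hF : FlatMod.IsFinLocFree F)
    (h : ∀ (V : Y.Opens) (hV : IsAffineOpen V), Reg (F.restrict (chart n hV.fromSpec)) 0) :
    KRR.IsRegSheaf n Y F := by
  intro q hq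
  refine isZero_Rpush_of_charts n Y _ q fun V hV => ?_
  refine Fga.HShift.subsingleton_of_iso (restrictTensorIso n hV.fromSpec (-(q : ℤ)) F).symm q ?_
  rw [← hh_iff]
  exact CMReg.subsingleton_HH
    (PerfA.QCohEpi.isQCoh_of_isFinLocFree (Dcoh.FinLocFree.isFinLocFree_restrict hF _)) (h V hV) q hq _
    (by omega)

/-- `O(m) ⊗ p^* E` is regular for `m ≥ 0`. -/
theorem isRegSheaf_twF_pullback (m : ℤ) (hm : 0 ≤ m) (E : Y.Modules) (hE : FlatMod.IsFinLocFree E) :
    KRR.IsRegSheaf n Y (KRR.twF n Y m ((Scheme.Modules.pullback (KRR.pr n Y)).obj E)) := by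
  have hf : FlatMod.IsFinLocFree ((Scheme.Modules.pullback (KRR.pr n Y)).obj E) :=
    PerfB.FlatPull.isFinLocFree_pullback _ hE
  refine isRegSheaf_of_reg n Y _ (isFinLocFree_tw n Y m _ hf) fun V hV => ?_
  rw [reg_iff]
  intro q hq hq'
  obtain ⟨e⟩ := nonempty_tw_tw n Y (0 - q) m ((Scheme.Modules.pullback (KRR.pr n Y)).obj E)
  have h1 := PullVan.subsingleton_HH_pullback n hV.fromSpec E hE (0 - q + m) q
    (Or.inl ⟨hq, by omega⟩)
  refine Fga.HShift.subsingleton_of_iso
    ((restrictTensorIso n hV.fromSpec (0 - q) _).symm.trans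
      ((Scheme.Modules.restrictFunctor (chart n hV.fromSpec)).mapIso e)).symm q h1

variable {n Y} in
/-- Regularity is invariant under isomorphism. -/
theorem isRegSheaf_of_iso {F G : (KRR.PY n Y).Modules} (e : F ≅ G) (h : KRR.IsRegSheaf n Y F) :
    KRR.IsRegSheaf n Y G := fun i hi => by
  refine IsZero.of_iso (h i hi) ?_
  exact (Coh.RpushAb (KRR.pr n Y) i).mapIso
    ((SheafOfModules.toSheaf _).mapIso ((tw n Y (-(i : ℤ))).mapIso e.symm))

/-- `O_P` is regular. -/
theorem isRegSheaf_structureModule : KRR.IsRegSheaf n Y (Coh.structureModule (KRR.PY n Y)) := by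
  obtain ⟨e⟩ := Ega3B.PullTensor.nonempty_pullUnitIso (KRR.pr n Y)
  obtain ⟨e'⟩ := nonempty_tw_zero n Y
    ((Scheme.Modules.pullback (KRR.pr n Y)).obj (Coh.structureModule Y))
  exact isRegSheaf_of_iso (e' ≪≫ e) (isRegSheaf_twF_pullback n Y 0 le_rfl _
    TensorOps.isFinLocFree_structureModule)

/-- `[p_* O_P] = [O_Y]`. -/
theorem cl_push_structureModule :
    KRR.cl Y ((Scheme.Modules.pushforward (KRR.pr n Y)).obj (Coh.structureModule (KRR.PY n Y))) =
      KRR.cl Y (Coh.structureModule Y) := by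
  have hE := TensorOps.isFinLocFree_structureModule (X := Y)
  have h1 := PushTwist.clSub_push_tw_pull n Y 0 hE
  rw [zero_add, Nat.choose_self, one_smul] at h1
  obtain ⟨e⟩ := Ega3B.PullTensor.nonempty_pullUnitIso (KRR.pr n Y)
  obtain ⟨e'⟩ := nonempty_tw_zero n Y
    ((Scheme.Modules.pullback (KRR.pr n Y)).obj (Coh.structureModule Y))
  have h2 := PushTwist.isFinLocFree_push_tw_pull n Y 0 hE
  refine Eq.trans ?_ h1
  exact (KvbRing.c_iso ((Scheme.Modules.pushforward (KRR.pr n Y)).mapIso (e' ≪≫ e)) h2).symm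

end Groth.Agent.Krr.H458.RegStr
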