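import Groth.Prelude.Def_CohB1
import Groth.Agent.Sga5.ProjSmooth
import Groth.Agent.CohqB.P1Charts
import Groth.Agent.CycB.P1Sep
import Groth.Agent.Divis.EffCartier
import Groth.Agent.Dix.IdealModCartier
import Mathlib.RingTheory.MvPolynomial.Ideal
import Mathlib.AlgebraicGeometry.Morphisms.Separated

/-!
# The points `[1 : 0]` and `[0 : 1]` of `P^1_R` and their ideals

* `pt R i : Spec R ⟶ P^1_R`, the point of the chart `D_+(X_i)` with `X_j / X_i = 0`, a section of the projection.
* `ideal_self`, `ideal_other`: its ideal is `(X_j / X_i)` on `D_+(X_i)` and the unit ideal on `D_+(X_j)`, `j ≠ i`.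
* `genOn_self`, `genOn_other`, `isEff`.
-/

set_option autoImplicit false

universe u

open CategoryTheory CategoryTheory.Limits AlgebraicGeometry MvPolynomial

namespace Groth.Agent.Krr.H458.SecPt

open Groth.Agent.Sga5.ProjChart Groth.Agent.Sga5.ProjSmooth Groth.Agent.CohqB.P1Charts
open Groth.Agent.Dix.IdealModCartier Groth.Agent.Divis.EffCartier Groth.Agent.Fdesc.LocGen

variable (R : Type u) [CommRing R]

section Alg

theorem ker_constantCoeff :
    RingHom.ker (constantCoeff : MvPolynomial (Fin 1) R →+* R) = Ideal.span {X 0} := by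
  apply le_antisymm
  · intro p hp
    have key : (Ideal.Quotient.mk (Ideal.span {(X 0 : MvPolynomial (Fin 1) R)})).comp
        ((C : R →+* MvPolynomial (Fin 1) R).comp constantCoeff) =
        Ideal.Quotient.mk (Ideal.span {(X 0 : MvPolynomial (Fin 1) R)}) := by
      apply MvPolynomial.ringHom_ext
      · intro r; simp
      · intro i
        obtain rfl : i = 0 := Subsingleton.elim _ _
        simp only [RingHom.comp_apply, constantCoeff_X, map_zero]
        symm
        rw [Ideal.Quotient.eq_zero_iff_mem]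
        exact Ideal.subset_span rfl
    have h := congrArg (fun g => g p) key
    simp only [RingHom.comp_apply, (RingHom.mem_ker).1 hp, map_zero] at h
    exact Ideal.Quotient.eq_zero_iff_mem.1 h.symm
  · rw [Ideal.span_le, Set.singleton_subset_iff]
    exact constantCoeff_X (R := R) 0

theorem X_mem_nonZeroDivisors :
    (X 0 : MvPolynomial (Fin 1) R) ∈ nonZeroDivisors (MvPolynomial (Fin 1) R) := by
  rw [mem_nonZeroDivisors_iff_right]
  intro p hp
  have h1 : (X 0 : MvPolynomial (Fin 1) R) * p = X 0 * 0 := by rw [mul_comm, hp, mul_zero]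
  exact (MvPolynomial.X_mul_cancel_left_iff).1 h1

end Alg

/-- The point of the chart `D_+(X_i)` of `P^1_R` with coordinate zero. -/
noncomputable def pt (i : Fin 2) : Spec (CommRingCat.of R) ⟶ CohB1.ProjSpace 1 R :=
  Spec.map (CommRingCat.ofHom (constantCoeff : MvPolynomial (Fin 1) R →+* R)) ≫ chart 1 R i

@[reassoc]
theorem pt_toSpec (i : Fin 2) : pt R i ≫ CohB1.ProjSpace.toSpec 1 R = 𝟙 _ := by
  rw [pt, Category.assoc, chart_toSpec, ← Spec.map_comp, ← CommRingCat.ofHom_comp]
  have : (constantCoeff : MvPolynomial (Fin 1) R →+* R).comp C = RingHom.id R := by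
    ext r; simp
  rw [this, CommRingCat.ofHom_id, Spec.map_id]

instance isClosedImmersion_pt (i : Fin 2) : IsClosedImmersion (pt R i) := by
  have h : IsClosedImmersion (pt R i ≫ CohB1.ProjSpace.toSpec 1 R) := by
    rw [pt_toSpec]; infer_instance
  have := CycB.P1Sep.isSeparated_toSpec 1 R
  exact IsClosedImmersion.of_comp (pt R i) (CohB1.ProjSpace.toSpec 1 R)

/-- The ring map of the point `pt i` on the chart. -/
noncomputable def ψ (i : Fin 2) : Chart 1 R i →+* R :=
  (constantCoeff : MvPolynomial (Fin 1) R →+* R).comp (chartEquiv 1 R i).symm.toRingHom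

/-- The standard chart as a morphism to `ProjSpace`. -/
noncomputable abbrev cι (i : Fin 2) : Spec (CommRingCat.of (Chart 1 R i)) ⟶ CohB1.ProjSpace 1 R :=
  CohqB.ProjBC.chartι 1 i

theorem pt_eq (i : Fin 2) : pt R i = Spec.map (CommRingCat.ofHom (ψ R i)) ≫ cι R i := by
  have h1 : chart 1 R i = Spec.map (CommRingCat.ofHom (chartEquiv 1 R i).symm.toRingHom) ≫ cι R i := rfl
  rw [pt, h1, ← Category.assoc, ← Spec.map_comp, ← CommRingCat.ofHom_comp]
  rfl

theorem ψ_frac {i j : Fin 2} (hij : i ≠ j) : ψ R i (frac 1 R i j) = 0 := by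
  have h1 : i.succAbove 0 = j := by
    revert hij; fin_cases i <;> fin_cases j <;> simp
  have h2 : frac 1 R i j = chartEquiv 1 R i (X 0) := by
    rw [chartEquiv_X, h1]; rfl
  rw [h2, ψ, RingHom.comp_apply]
  change constantCoeff ((chartEquiv 1 R i).symm (chartEquiv 1 R i (X 0))) = 0
  rw [RingEquiv.symm_apply_apply, constantCoeff_X]

theorem ker_ψ {i j : Fin 2} (hij : i ≠ j) : RingHom.ker (ψ R i) = Ideal.span {frac 1 R i j} := by
  have h1 : i.succAbove 0 = j := by
    revert hij; fin_cases i <;> fin_cases j <;> simp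
  have h2 : frac 1 R i j = chartEquiv 1 R i (X 0) := by
    rw [chartEquiv_X, h1]; rfl
  apply le_antisymm
  · intro z hz
    have hz' : (chartEquiv 1 R i).symm z ∈ RingHom.ker (constantCoeff : MvPolynomial (Fin 1) R →+* R) := hz
    rw [ker_constantCoeff, Ideal.mem_span_singleton] at hz'
    obtain ⟨q, hq⟩ := hz'
    rw [Ideal.mem_span_singleton, h2]
    refine ⟨chartEquiv 1 R i q, ?_⟩
    rw [← map_mul, ← hq, RingEquiv.apply_symm_apply]
  · rw [Ideal.span_le, Set.singleton_subset_iff]
    exact ψ_frac R hij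

theorem frac_mem_nonZeroDivisors {i j : Fin 2} (hij : i ≠ j) :
    frac 1 R i j ∈ nonZeroDivisors (Chart 1 R i) := by
  have h1 : i.succAbove 0 = j := by
    revert hij; fin_cases i <;> fin_cases j <;> simp
  have h2 : frac 1 R i j = chartEquiv 1 R i (X 0) := by
    rw [chartEquiv_X, h1]; rfl
  rw [h2, mem_nonZeroDivisors_iff_right]
  intro z hz
  have h3 : (chartEquiv 1 R i).symm z * X 0 = 0 := by
    apply (chartEquiv 1 R i).injective
    rw [map_mul, RingEquiv.apply_symm_apply, map_zero, hz]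
  have h4 := (mem_nonZeroDivisors_iff_right.1 (X_mem_nonZeroDivisors R)) _ h3
  rw [← (chartEquiv 1 R i).apply_symm_apply z, h4, map_zero]

theorem pt_preimage_self (i : Fin 2) : pt R i ⁻¹ᵁ D 1 R i = ⊤ := by
  rw [pt_eq, Scheme.Hom.comp_preimage]
  have h : cι R i ⁻¹ᵁ D 1 R i = ⊤ := by
    rw [← opensRange_chartι]
    exact Scheme.Hom.preimage_opensRange _
  rw [h, Scheme.Hom.preimage_top]

theorem pt_preimage_other {i j : Fin 2} (hij : i ≠ j) : pt R i ⁻¹ᵁ D 1 R j = ⊥ := by
  rw [pt_eq, Scheme.Hom.comp_preimage]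
  have h : cι R i ⁻¹ᵁ D 1 R j = PrimeSpectrum.basicOpen (frac 1 R i j) := chartι_preimage_D 1 R i j
  rw [h]
  ext x
  constructor
  · intro hx
    have hx' : ψ R i (frac 1 R i j) ∉ x.asIdeal := hx
    rw [ψ_frac R hij] at hx'
    exact (hx' (Ideal.zero_mem _)).elim
  · intro hx; exact hx.elim

theorem appLE_awayToSection (i : Fin 2) (z : Chart 1 R i) :
    ((pt R i).appLE (D 1 R i) ⊤ (pt_preimage_self R i).ge).hom
      ((Proj.awayToSection (CohB1.polyGrading 1 R) (X i)).hom z) =
    (Scheme.ΓSpecIso (CommRingCat.of R)).inv.hom (ψ R i z) := by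
  have e : (⊤ : (Spec (CommRingCat.of (Chart 1 R i))).Opens) ≤ cι R i ⁻¹ᵁ D 1 R i := by
    rw [← opensRange_chartι, Scheme.Hom.preimage_opensRange]
  have h1 : CohqB.P1Charts.sec 1 R i ≫ (cι R i).appLE (D 1 R i) ⊤ e =
      (Scheme.ΓSpecIso (CommRingCat.of (Chart 1 R i))).inv := sec_chartι 1 R i
  have h2 := Scheme.Hom.appLE_comp_appLE (Spec.map (CommRingCat.ofHom (ψ R i))) (cι R i)
    (D 1 R i) ⊤ ⊤ e le_top
  have h3 : (pt R i).appLE (D 1 R i) ⊤ (pt_preimage_self R i).ge =
      (cι R i).appLE (D 1 R i) ⊤ e ≫ (Spec.map (CommRingCat.ofHom (ψ R i))).appLE ⊤ ⊤ le_top := by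
    rw [h2]
    congr 1
    exact pt_eq R i
  have h4 : CohqB.P1Charts.sec 1 R i ≫
      (pt R i).appLE (D 1 R i) ⊤ (pt_preimage_self R i).ge =
      CommRingCat.ofHom (ψ R i) ≫ (Scheme.ΓSpecIso (CommRingCat.of R)).inv := by
    rw [h3, ← Category.assoc, h1]
    exact (Scheme.ΓSpecIso_inv_naturality _).symm
  exact congr($(h4).hom z)

/-- The sections over `D_+(X_i)`. -/
theorem awayToSection_bijective (i : Fin 2) : Function.Bijective
    (Proj.awayToSection (CohB1.polyGrading 1 R) (X i : MvPolynomial (Fin 2) R)).hom := by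
  have := isIso_awayToSection 1 R i
  exact ConcreteCategory.bijective_of_isIso (Proj.awayToSection (CohB1.polyGrading 1 R)
      (X i : MvPolynomial (Fin (1 + 1)) R))

/-- The affine open `D_+(X_i)`. -/
noncomputable abbrev DA (i : Fin 2) : (CohB1.ProjSpace 1 R).affineOpens := ⟨D 1 R i, isAffineOpen_D 1 R i⟩

theorem ideal_self {i j : Fin 2} (hij : i ≠ j) :
    (pt R i).ker.ideal (DA R i) = Ideal.span {ratio 1 R i j} := by
  rw [Scheme.Hom.ker_apply]
  have hinj : ∀ s : Γ(CohB1.ProjSpace 1 R, D 1 R i), ((pt R i).app (D 1 R i)).hom s = 0 ↔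
      ((pt R i).appLE (D 1 R i) ⊤ (pt_preimage_self R i).ge).hom s = 0 := by
    intro s
    have h1 : Function.Injective ((Spec (CommRingCat.of R)).presheaf.map
        (homOfLE (pt_preimage_self R i).ge).op).hom := by
      have : IsIso (homOfLE (pt_preimage_self R i).ge) :=
        ⟨homOfLE (pt_preimage_self R i).le, Subsingleton.elim _ _, Subsingleton.elim _ _⟩
      exact (ConcreteCategory.bijective_of_isIso ((Spec (CommRingCat.of R)).presheaf.map
        (homOfLE (pt_preimage_self R i).ge).op)).1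
    constructor
    · intro h
      rw [Scheme.Hom.appLE, CommRingCat.hom_comp, RingHom.comp_apply, h, map_zero]
    · intro h
      apply h1
      rw [map_zero]
      exact h
  apply le_antisymm
  · intro s hs
    obtain ⟨z, rfl⟩ := (awayToSection_bijective R i).2 s
    have h1 := (hinj _).1 hs
    rw [appLE_awayToSection] at h1
    have h2 : ψ R i z = 0 := by
      apply (ConcreteCategory.bijective_of_isIso (Scheme.ΓSpecIso (CommRingCat.of R)).inv).1
      exact h1.trans (map_zero _).symm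
    have h3 : z ∈ RingHom.ker (ψ R i) := h2
    rw [ker_ψ R hij, Ideal.mem_span_singleton] at h3
    obtain ⟨q, rfl⟩ := h3
    rw [map_mul]
    exact Ideal.mul_mem_right _ _ (Ideal.mem_span_singleton_self _)
  · refine (Ideal.span_le (α := Γ(CohB1.ProjSpace 1 R, D 1 R i))).2 ?_
    rw [Set.singleton_subset_iff]
    refine (hinj _).2 ?_
    rw [ratio, appLE_awayToSection, ψ_frac R hij, map_zero]

theorem ideal_other {i j : Fin 2} (hij : i ≠ j) : (pt R i).ker.ideal (DA R j) = ⊤ := by
  rw [Scheme.Hom.ker_apply, eq_top_iff]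
  intro s _
  have h1 : Subsingleton Γ(Spec (CommRingCat.of R), pt R i ⁻¹ᵁ D 1 R j) := by
    rw [pt_preimage_other R hij]
    infer_instance
  exact Subsingleton.elim (α := Γ(Spec (CommRingCat.of R), pt R i ⁻¹ᵁ D 1 R j)) _ _

theorem ratio_mem_nonZeroDivisors {i j : Fin 2} (hij : i ≠ j) :
    ratio 1 R i j ∈ nonZeroDivisors Γ(CohB1.ProjSpace 1 R, D 1 R i) := by
  rw [mem_nonZeroDivisors_iff_right]
  intro s hs
  obtain ⟨z, rfl⟩ := (awayToSection_bijective R i).2 s
  have h1 : z * frac 1 R i j = 0 := by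
    apply (awayToSection_bijective R i).1
    rw [map_mul, map_zero]
    exact hs
  have h2 : z = 0 := (mem_nonZeroDivisors_iff_right.1 (frac_mem_nonZeroDivisors R hij)) z h1
  rw [h2]
  exact map_zero _

theorem genOn_self {i j : Fin 2} (hij : i ≠ j) : GenOn (pt R i).ker (ratio 1 R i j) :=
  genOn_of_affine (U := DA R i) (ratio_mem_nonZeroDivisors R hij) (ideal_self R hij)

theorem genOn_other {i j : Fin 2} (hij : i ≠ j) :
    GenOn (pt R i).ker (1 : Γ(CohB1.ProjSpace 1 R, D 1 R j)) :=
  genOn_of_affine (U := DA R j) (one_mem _) ((ideal_other R hij).trans Ideal.span_singleton_one.symm)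

theorem exists_mem_D (x : CohB1.ProjSpace 1 R) : x ∈ D 1 R 0 ∨ x ∈ D 1 R 1 := by
  have h : x ∈ ⨆ i, D 1 R i := by rw [iSup_D]; trivial
  obtain ⟨i, hi⟩ := TopologicalSpace.Opens.mem_iSup.1 h
  fin_cases i
  · exact Or.inl hi
  · exact Or.inr hi

theorem isEff (i : Fin 2) : BlowUp.IsEffCartierIdeal (pt R i).ker := by
  intro x
  obtain ⟨j, hij⟩ : ∃ j : Fin 2, i ≠ j := ⟨1 - i, by revert i; decide⟩
  have hx : x ∈ D 1 R i ∨ x ∈ D 1 R j := by
    have := exists_mem_D R x
    fin_cases i <;> fin_cases j <;> simp_all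
    all_goals exact this.symm
  rcases hx with hx | hx
  · exact ⟨DA R i, hx, _, ratio_mem_nonZeroDivisors R hij, ideal_self R hij⟩
  · exact ⟨DA R j, hx, 1, one_mem _, (ideal_other R hij).trans Ideal.span_singleton_one.symm⟩

end Groth.Agent.Krr.H458.SecPt
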